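import Mathlib
import Cfsg.Agent.BpAlt.Row

/-!
# Small facts on `C₃ × A₅` and `C₃ × S₅`
-/

set_option autoImplicit false

namespace Cfsg.Agent.H975.A8Five

open Subgroup Equiv

universe u v

/-- `X` is `A₅` or `S₅`, through an embedding in `S₅`. -/
structure Five (X : Type*) [Group X] (f : X →* Perm (Fin 5)) : Prop where
  inj : Function.Injective f
  alt : ∀ g : Perm (Fin 5), g ∈ alternatingGroup (Fin 5) → ∃ x, f x = g

theorem five_alt : Five (alternatingGroup (Fin 5)) (alternatingGroup (Fin 5)).subtype :=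
  ⟨Subtype.val_injective, fun g hg => ⟨⟨g, hg⟩, rfl⟩⟩

theorem five_perm : Five (Perm (Fin 5)) (MonoidHom.id _) :=
  ⟨Function.injective_id, fun g _ => ⟨g, rfl⟩⟩

theorem cent_dec : ∀ x : Perm (Fin 5), x * c[0, 1, 2] = c[0, 1, 2] * x → x * c[0, 1, 2, 3, 4] = c[0, 1, 2, 3, 4] * x →
    x = 1 := by
  decide +kernel

theorem mem3 : (c[0, 1, 2] : Perm (Fin 5)) ∈ alternatingGroup (Fin 5) := by
  rw [Equiv.Perm.mem_alternatingGroup]; decide +kernel

theorem mem5 : (c[0, 1, 2, 3, 4] : Perm (Fin 5)) ∈ alternatingGroup (Fin 5) := by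
  rw [Equiv.Perm.mem_alternatingGroup]; decide +kernel

theorem cent_alt {x : Perm (Fin 5)} (h : ∀ g ∈ alternatingGroup (Fin 5), x * g = g * x) : x = 1 :=
  cent_dec x (h _ mem3) (h _ mem5)

theorem card_alt : Nat.card (alternatingGroup (Fin 5)) = 60 := by
  rw [nat_card_alternatingGroup, Nat.card_eq_fintype_card, Fintype.card_fin]
  rfl

theorem center {X : Type*} [Group X] {f : X →* Perm (Fin 5)} (h : Five X f) {x : X} (hx : ∀ y, x * y = y * x) :
    x = 1 := by
  apply h.inj
  rw [map_one]
  apply cent_alt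
  intro g hg
  obtain ⟨y, rfl⟩ := h.alt g hg
  rw [← map_mul, hx, map_mul]

/-- no normal `3'`-subgroups -/
theorem normal {X : Type*} [Group X] [Finite X] {f : X →* Perm (Fin 5)} (h : Five X f) (R : Subgroup X)
    (hR : R.Normal) (h3 : ¬ 3 ∣ Nat.card R) : R = ⊥ := by
  -- the preimage in the alternating group
  let A := (R.map f).comap (alternatingGroup (Fin 5)).subtype
  have hA : A.Normal := by
    refine ⟨fun a ha g => ?_⟩
    obtain ⟨r, hr, hra⟩ := ha
    obtain ⟨y, hy⟩ := h.alt g g.2
    refine ⟨y * r * y⁻¹, hR.conj_mem r hr y, ?_⟩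
    rw [map_mul, map_mul, map_inv, hy, hra]
    rfl
  have h0 := (alternatingGroup.isSimpleGroup (α := Fin 5) (by simp)).eq_bot_or_eq_top_of_normal A hA
  rcases h0 with h0 | h0
  · rw [eq_bot_iff_forall]
    intro r hr
    apply h.inj
    rw [map_one]
    apply cent_alt
    intro g hg
    obtain ⟨y, hy⟩ := h.alt g hg
    have h1 : f (r * y * r⁻¹ * y⁻¹) ∈ alternatingGroup (Fin 5) := by
      rw [Equiv.Perm.mem_alternatingGroup]
      simp only [map_mul, map_inv]
      have h5 : ∀ a b : ℤˣ, a * b * a⁻¹ * b⁻¹ = 1 := by decide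
      exact h5 _ _
    have h2 : (⟨f (r * y * r⁻¹ * y⁻¹), h1⟩ : alternatingGroup (Fin 5)) ∈ A := by
      refine ⟨r * y * r⁻¹ * y⁻¹, ?_, rfl⟩
      have h3 : y * r⁻¹ * y⁻¹ ∈ R := hR.conj_mem _ (inv_mem hr) y
      have h4 : r * y * r⁻¹ * y⁻¹ = r * (y * r⁻¹ * y⁻¹) := by group
      rw [h4]
      exact mul_mem hr h3
    rw [h0, mem_bot] at h2
    have h3 : f (r * y * r⁻¹ * y⁻¹) = 1 := congrArg Subtype.val h2
    rw [map_mul, map_mul, map_mul, map_inv, map_inv, mul_inv_eq_one, mul_inv_eq_iff_eq_mul, hy] at h3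
    exact h3
  · exfalso
    apply h3
    have h1 : Nat.card (alternatingGroup (Fin 5)) ∣ Nat.card (R.map f) := by
      have h2 : alternatingGroup (Fin 5) ≤ R.map f := by
        intro g hg
        have h3 : (⟨g, hg⟩ : alternatingGroup (Fin 5)) ∈ A := by rw [h0]; exact mem_top _
        exact h3
      exact card_dvd_of_le h2
    rw [card_alt, Subgroup.card_map_of_injective h.inj] at h1
    exact (by norm_num : 3 ∣ 60).trans h1

/-- a nonabelian simple group embedded in `S₅` is `A₅` -/
theorem simple_embed {U : Type u} [Group U] [Finite U] (hs : IsSimpleGroup U) (hna : ¬ ∀ a b : U, a * b = b * a)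
    (f : U →* Perm (Fin 5)) (hf : Function.Injective f) : Nonempty (U ≃* alternatingGroup (Fin 5)) := by
  -- the image is in the alternating group
  have h1 : ∀ u, f u ∈ alternatingGroup (Fin 5) := by
    let s : U →* ℤˣ := Perm.sign.comp f
    rcases hs.eq_bot_or_eq_top_of_normal s.ker inferInstance with h0 | h0
    · exfalso
      apply hna
      intro a b
      have hinj : Function.Injective s := (MonoidHom.ker_eq_bot_iff s).1 h0
      apply hinj
      rw [map_mul, map_mul, mul_comm]
    · intro u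
      rw [Equiv.Perm.mem_alternatingGroup]
      have h2 : u ∈ s.ker := by rw [h0]; exact mem_top u
      exact h2
  let g : U →* alternatingGroup (Fin 5) := f.codRestrict _ h1
  have hg : Function.Injective g := by
    intro a b hab
    apply hf
    exact congrArg Subtype.val hab
  have h2 : Nat.card U ∣ 60 := by
    rw [← card_alt]
    exact Subgroup.card_dvd_of_injective g hg
  have h3 : Nat.card U = 60 := by
    by_contra hne
    have h4 : Nat.card U ≤ 60 := Nat.le_of_dvd (by norm_num) h2
    have h5 := BpAlt.solvable_of_lt (Nat.card U) U rfl (by omega)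
    exact hna (IsSimpleGroup.comm_iff_isSolvable.2 h5)
  exact ⟨MulEquiv.ofBijective g ((Nat.bijective_iff_injective_and_card g).2 ⟨hg, by rw [h3, card_alt]⟩)⟩

/-- no normal `3'`-subgroups in `C₃ × X` -/
theorem prod_normal {X : Type*} [Group X] [Finite X] {f : X →* Perm (Fin 5)} (h : Five X f)
    (R : Subgroup (Multiplicative (ZMod 3) × X)) (hR : R.Normal) (h3 : ¬ 3 ∣ Nat.card R) : R = ⊥ := by
  let R' : Subgroup X := R.comap (MonoidHom.inr _ _)
  have hR' : R'.Normal := hR.comap _
  have h1 : R' = ⊥ := by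
    apply normal h R' hR'
    intro h4
    apply h3
    have h5 : Nat.card R' ∣ Nat.card R := by
      let g : R' →* R :=
        { toFun := fun r => ⟨(1, r), r.2⟩
          map_one' := rfl
          map_mul' := fun a b => Subtype.ext (by simp) }
      refine Subgroup.card_dvd_of_injective g ?_
      intro a b hab
      have h6 := congrArg (fun r : R => (r : Multiplicative (ZMod 3) × X).2) hab
      exact Subtype.ext h6
    exact h4.trans h5
  rw [eq_bot_iff_forall]
  rintro ⟨a, x⟩ hr
  have hx : x = 1 := by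
    apply center h
    intro y
    have h4 : ((1, x * y * x⁻¹ * y⁻¹) : Multiplicative (ZMod 3) × X) ∈ R := by
      have h5 : ((1, y) : Multiplicative (ZMod 3) × X) * (a, x)⁻¹ * (1, y)⁻¹ ∈ R := hR.conj_mem _ (inv_mem hr) _
      have h6 := mul_mem hr h5
      have h7 : ((a, x) * ((1, y) * (a, x)⁻¹ * (1, y)⁻¹) : Multiplicative (ZMod 3) × X) = (1, x * y * x⁻¹ * y⁻¹) := by
        simp [mul_assoc]
      rwa [h7] at h6
    have h5 : x * y * x⁻¹ * y⁻¹ ∈ R' := h4
    rw [h1, mem_bot, mul_inv_eq_one, mul_inv_eq_iff_eq_mul] at h5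
    exact h5
  subst hx
  have h4 : a ^ 3 = 1 := by
    revert a
    intro a _
    exact (by decide : ∀ a : Multiplicative (ZMod 3), a ^ 3 = 1) a
  by_contra hne
  have ha : ((a, 1) : Multiplicative (ZMod 3) × X) ≠ 1 := hne
  have h5 : orderOf ((a, 1) : Multiplicative (ZMod 3) × X) = 3 := by
    have : Fact (Nat.Prime 3) := ⟨Nat.prime_three⟩
    apply orderOf_eq_prime
    · rw [Prod.pow_mk, h4, one_pow]; rfl
    · exact ha
  apply h3
  have h6 : orderOf ((a, 1) : Multiplicative (ZMod 3) × X) ∣ Nat.card R := Subgroup.orderOf_dvd_natCard R hr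
  rwa [h5] at h6

/-- a nonabelian simple group embedded in `C₃ × X` is `A₅` -/
theorem prod_simple {X : Type*} [Group X] [Finite X] {f : X →* Perm (Fin 5)} (h : Five X f)
    {U : Type u} [Group U] [Finite U] (hs : IsSimpleGroup U) (hna : ¬ ∀ a b : U, a * b = b * a)
    (g : U →* Multiplicative (ZMod 3) × X) (hg : Function.Injective g) :
    Nonempty (U ≃* alternatingGroup (Fin 5)) := by
  let g2 : U →* X := (MonoidHom.snd _ _).comp g
  let g1 : U →* Multiplicative (ZMod 3) := (MonoidHom.fst _ _).comp g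
  rcases hs.eq_bot_or_eq_top_of_normal g2.ker inferInstance with h0 | h0
  · have hinj : Function.Injective g2 := (MonoidHom.ker_eq_bot_iff g2).1 h0
    exact simple_embed hs hna (f.comp g2) (h.inj.comp hinj)
  · exfalso
    apply hna
    intro a b
    apply hg
    have h1 : ∀ u, (g u).2 = 1 := by
      intro u
      have h2 : u ∈ g2.ker := by rw [h0]; exact mem_top u
      exact h2
    rw [map_mul, map_mul]
    ext1
    · exact mul_comm _ _
    · simp [h1]

/-- no element of order divisible by ten in `(S₃ × S₅)⁺` -/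
theorem dec5 : ∀ b : Perm (Fin 5), b ^ 5 = 1 ∨ b ^ 12 = 1 := by
  decide +kernel

end Cfsg.Agent.H975.A8Five
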