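import Mathlib
import Cfsg.Agent.Lib.MinNormalNonabelian
import Cfsg.Agent.Lib.CoprimeHyperplane
import Cfsg.Agent.H975.A8Five

/-!
# Reduction for the 3-local characterisations of `Alt(8)` and `Sym(8)` (S3329, S3330)
-/

set_option autoImplicit false

namespace Cfsg.Agent.H975.A8Red

open Subgroup Cfsg.Agent.Lib

universe u

variable {G : Type u} [Group G]

/-- The local set-up (`e = 1` for S3329, `e = 2` for S3330). -/
structure Loc (D : Subgroup G) (y z : G) (e : ℕ) : Prop where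
  e0 : 0 < e
  e3 : ¬ 3 ∣ e
  card : Nat.card D = 9
  comm : ∀ a ∈ D, ∀ b ∈ D, a * b = b * a
  cube : ∀ a ∈ D, a ^ 3 = 1
  gen : closure {y, z} = D
  cC : Nat.card (centralizer (D : Set G)) = 9 * e
  cN : Nat.card (normalizer (D : Set G)) = 72 * e
  eight : ∀ n ∈ normalizer (D : Set G), n ^ 8 ∈ centralizer (D : Set G)
  cy : Nat.card (centralizer ({y} : Set G)) = 18 * e
  yle : centralizer ({y} : Set G) ≤ normalizer (D : Set G)
  cz : Nat.card (centralizer ({z} : Set G)) = 180 * e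
  core : ∀ R : Subgroup G, R ≤ centralizer ({z} : Set G) →
    (∀ c ∈ centralizer ({z} : Set G), ∀ r ∈ R, c * r * c⁻¹ ∈ R) → ¬ 3 ∣ Nat.card R → R = ⊥
  simp : ∀ U : Subgroup G, U ≤ centralizer ({z} : Set G) → IsSimpleGroup U → (¬ ∀ a b : U, a * b = b * a) →
    Nonempty (U ≃* alternatingGroup (Fin 5))

namespace Loc

variable {D : Subgroup G} {y z : G} {e : ℕ} (h : Loc D y z e)

include h

theorem hy : y ∈ D := by
  rw [← h.gen]; exact subset_closure (by simp)

theorem hz : z ∈ D := by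
  rw [← h.gen]; exact subset_closure (by simp)

theorem y1 : y ≠ 1 := by
  rintro rfl
  have h1 : D = zpowers z := by
    rw [← h.gen, zpowers_eq_closure]
    apply le_antisymm
    · rw [closure_le]
      rintro x (rfl | hx)
      · exact one_mem _
      · exact subset_closure hx
    · exact closure_mono (by simp)
  have h2 : orderOf z ∣ 3 := orderOf_dvd_of_pow_eq_one (h.cube z h.hz)
  have h3 := Nat.le_of_dvd (by norm_num) h2
  have h4 := h.card
  rw [h1, Nat.card_zpowers] at h4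
  omega

theorem z1 : z ≠ 1 := by
  rintro rfl
  have h1 : D = zpowers y := by
    rw [← h.gen, zpowers_eq_closure]
    apply le_antisymm
    · rw [closure_le]
      rintro x (hx | rfl)
      · exact subset_closure hx
      · exact one_mem _
    · exact closure_mono (by simp)
  have h2 : orderOf y ∣ 3 := orderOf_dvd_of_pow_eq_one (h.cube y h.hy)
  have h3 := Nat.le_of_dvd (by norm_num) h2
  have h4 := h.card
  rw [h1, Nat.card_zpowers] at h4
  omega

omit h in
theorem conj_mem {n : G} (hn : n ∈ normalizer (D : Set G)) {s : G} (hs : s ∈ D) : n * s * n⁻¹ ∈ D :=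
  (mem_normalizer_iff.1 hn s).1 hs

/-- coordinates -/
theorem coords {s : G} (hs : s ∈ D) : ∃ i j : ℕ, s = y ^ i * z ^ j := by
  have hcomm : Commute y z := h.comm y h.hy z h.hz
  rw [← h.gen] at hs
  induction hs using closure_induction with
  | mem x hx =>
    rcases hx with rfl | rfl
    · exact ⟨1, 0, by simp⟩
    · exact ⟨0, 1, by simp⟩
  | one => exact ⟨0, 0, by simp⟩
  | mul a b _ _ ha hb =>
    obtain ⟨i, j, rfl⟩ := ha
    obtain ⟨k, l, rfl⟩ := hb
    refine ⟨i + k, j + l, ?_⟩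
    have h1 : z ^ j * y ^ k = y ^ k * z ^ j := ((hcomm.pow_pow k j).eq).symm
    calc y ^ i * z ^ j * (y ^ k * z ^ l) = y ^ i * (z ^ j * y ^ k) * z ^ l := by simp only [mul_assoc]
      _ = _ := by rw [h1, pow_add, pow_add]; simp only [mul_assoc]
  | inv a _ ha =>
    obtain ⟨i, j, rfl⟩ := ha
    refine ⟨2 * i, 2 * j, ?_⟩
    rw [inv_eq_iff_mul_eq_one]
    have h1 : z ^ j * y ^ (2 * i) = y ^ (2 * i) * z ^ j := ((hcomm.pow_pow (2 * i) j).eq).symm
    have hy3 := h.cube y h.hy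
    have hz3 := h.cube z h.hz
    calc y ^ i * z ^ j * (y ^ (2 * i) * z ^ (2 * j)) = y ^ i * (z ^ j * y ^ (2 * i)) * z ^ (2 * j) := by
          simp only [mul_assoc]
      _ = (y ^ i * y ^ (2 * i)) * (z ^ j * z ^ (2 * j)) := by rw [h1]; simp only [mul_assoc]
      _ = 1 := by
        rw [← pow_add, ← pow_add, show i + 2 * i = 3 * i by ring, show j + 2 * j = 3 * j by ring, pow_mul, pow_mul,
          hy3, hz3, one_pow, one_pow, one_mul]

theorem mem_cent {n : G} (hy : n * y = y * n) (hz : n * z = z * n) : n ∈ centralizer (D : Set G) := by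
  have h1 : closure {y, z} ≤ centralizer ({n} : Set G) := by
    rw [closure_le]
    rintro x (rfl | rfl)
    · exact mem_centralizer_singleton_iff.2 hy.symm
    · exact mem_centralizer_singleton_iff.2 hz.symm
  rw [h.gen] at h1
  rw [mem_centralizer_iff]
  intro s hs
  exact mem_centralizer_singleton_iff.1 (h1 hs)

theorem not_mem_zpowers : y ∉ zpowers z := by
  intro hyz
  have h1 : D = zpowers z := by
    rw [← h.gen]
    apply le_antisymm
    · rw [closure_le]
      rintro x (rfl | rfl)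
      · exact hyz
      · exact mem_zpowers _
    · rw [zpowers_le]
      exact subset_closure (by simp)
  have h2 : orderOf z ∣ 3 := orderOf_dvd_of_pow_eq_one (h.cube z h.hz)
  have h3 := Nat.le_of_dvd (by norm_num) h2
  have h4 := h.card
  rw [h1, Nat.card_zpowers] at h4
  omega

/-- an element of `N(D) ∩ C(z)` -/
theorem step {n : G} (hn : n ∈ normalizer (D : Set G)) (hz : n * z = z * n) {j : ℕ}
    (hj : n * y * n⁻¹ = y * z ^ j) : n ∈ centralizer (D : Set G) := by
  have hzc : ∀ k : ℕ, n * z ^ k * n⁻¹ = z ^ k := fun k => by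
    have h1 : Commute n z := hz
    rw [(h1.pow_right k).eq, mul_inv_cancel_right]
  have h1 : n ^ 3 * y * (n ^ 3)⁻¹ = y := by
    have h2 : n ^ 3 * y * (n ^ 3)⁻¹ = n * (n * (n * y * n⁻¹) * n⁻¹) * n⁻¹ := by
      simp only [pow_succ, pow_zero, one_mul, mul_inv_rev, mul_assoc]
    rw [h2, hj]
    have h3 : n * (y * z ^ j) * n⁻¹ = (n * y * n⁻¹) * (n * z ^ j * n⁻¹) := by group
    rw [h3, hj, hzc]
    have h4 : n * (y * z ^ j * z ^ j) * n⁻¹ = (n * y * n⁻¹) * (n * z ^ j * n⁻¹) * (n * z ^ j * n⁻¹) := by group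
    rw [h4, hj, hzc, mul_assoc, mul_assoc, ← pow_add, ← pow_add, show j + (j + j) = 3 * j by ring, pow_mul,
      h.cube z h.hz, one_pow, mul_one]
  have h2 : n ^ 3 ∈ centralizer (D : Set G) := by
    apply h.mem_cent
    · rw [mul_inv_eq_iff_eq_mul] at h1
      exact h1
    · have h3 : Commute n z := hz
      exact (h3.pow_left 3).eq
  have h3 := h.eight n hn
  have h4 : n = (n ^ 3) ^ 3 * (n ^ 8)⁻¹ := by
    rw [← pow_mul, show 3 * 3 = 1 + 8 by norm_num, pow_add, pow_one, mul_inv_cancel_right]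
  rw [h4]
  exact mul_mem (pow_mem h2 3) (inv_mem h3)

theorem step2 {n : G} (hn : n ∈ normalizer (D : Set G)) (hz : n * z = z * n)
    (hc : n ∉ centralizer (D : Set G)) : ∃ j : ℕ, n * y * n⁻¹ = y⁻¹ * z ^ j := by
  obtain ⟨i, j, hij⟩ := h.coords (conj_mem hn h.hy)
  have hy3 := h.cube y h.hy
  have h1 : y ^ i = y ^ (i % 3) := by
    conv_lhs => rw [← Nat.div_add_mod i 3, pow_add, pow_mul, hy3, one_pow, one_mul]
  rw [h1] at hij
  have h2 : i % 3 = 0 ∨ i % 3 = 1 ∨ i % 3 = 2 := by omega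
  rcases h2 with h2 | h2 | h2
  · exfalso
    rw [h2, pow_zero, one_mul] at hij
    apply h.not_mem_zpowers
    have h3 : y = z ^ j := by
      have h4 : y = n⁻¹ * (z ^ j) * n := by rw [← hij]; group
      have h5 : Commute n z := hz
      rw [h4, mul_assoc, ← (h5.pow_right j).eq, inv_mul_cancel_left]
    rw [h3]
    exact pow_mem (mem_zpowers z) j
  · exfalso
    rw [h2, pow_one] at hij
    exact hc (h.step hn hz hij)
  · refine ⟨j, ?_⟩
    rw [hij, h2]
    congr 1
    rw [eq_inv_iff_mul_eq_one, ← pow_succ, hy3]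

theorem step3 {n m : G} (hn : n ∈ normalizer (D : Set G)) (hz : n * z = z * n)
    (hc : n ∉ centralizer (D : Set G)) (hm : m ∈ normalizer (D : Set G)) (hmz : m * z = z * m)
    (hmc : m ∉ centralizer (D : Set G)) : m * n ∈ centralizer (D : Set G) := by
  obtain ⟨j, hj⟩ := h.step2 hn hz hc
  obtain ⟨k, hk⟩ := h.step2 hm hmz hmc
  have hmn : m * n * z = z * (m * n) := by
    rw [mul_assoc, hz, ← mul_assoc, hmz, mul_assoc]
  have h1 : m * z ^ j * m⁻¹ = z ^ j := by
    have h5 : Commute m z := hmz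
    rw [(h5.pow_right j).eq, mul_inv_cancel_right]
  have h2 : m * y⁻¹ * m⁻¹ = y * z ^ (2 * k) := by
    have h3 : m * y⁻¹ * m⁻¹ = (m * y * m⁻¹)⁻¹ := by group
    rw [h3, hk, mul_inv_rev, inv_inv]
    have h4 : (z ^ k)⁻¹ = z ^ (2 * k) := by
      rw [inv_eq_iff_mul_eq_one, ← pow_add, show k + 2 * k = 3 * k by ring, pow_mul, h.cube z h.hz, one_pow]
    rw [h4]
    exact (h.comm _ h.hy _ (pow_mem h.hz _)).symm
  apply h.step (mul_mem hm hn) hmn (j := 2 * k + j)
  have h3 : m * n * y * (m * n)⁻¹ = m * (n * y * n⁻¹) * m⁻¹ := by group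
  have h4 : m * (y⁻¹ * z ^ j) * m⁻¹ = (m * y⁻¹ * m⁻¹) * (m * z ^ j * m⁻¹) := by group
  rw [h3, hj, h4, h2, h1, mul_assoc, ← pow_add]

theorem finite : Finite D := Nat.finite_of_card_ne_zero (by rw [h.card]; norm_num)

omit h in
theorem cent_le (hx : z ∈ D) : centralizer (D : Set G) ≤ normalizer (D : Set G) ⊓ centralizer ({z} : Set G) := by
  apply le_inf
  · exact Subgroup.centralizer_le_normalizer (D : Set G)
  · exact centralizer_le (by simpa using hx)

/-- `|N(D) ∩ C(z)| ≤ 18 e` -/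
theorem card_Nz [Finite G] : Nat.card ↥(normalizer (D : Set G) ⊓ centralizer ({z} : Set G)) ≤ 18 * e := by
  set H := normalizer (D : Set G) ⊓ centralizer ({z} : Set G) with hH
  have hle : centralizer (D : Set G) ≤ H := cent_le h.hz
  have h0 : (centralizer (D : Set G)).relIndex H * Nat.card (centralizer (D : Set G)) = Nat.card H := by
    have h5 := relIndex_mul_relIndex ⊥ (centralizer (D : Set G)) H bot_le hle
    rw [relIndex_bot_left, relIndex_bot_left] at h5
    rw [← h5, mul_comm]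
  have h1 : (centralizer (D : Set G)).relIndex H ≤ 2 := by
    by_cases hall : H ≤ centralizer (D : Set G)
    · rw [relIndex_eq_one.2 hall]; norm_num
    · obtain ⟨n, hnH, hnc⟩ := SetLike.not_le_iff_exists.1 hall
      obtain ⟨hn, hnz⟩ := mem_inf.1 hnH
      rw [mem_centralizer_singleton_iff] at hnz
      have h2 : (centralizer (D : Set G)).relIndex H = 2 := by
        rw [relIndex, index_eq_two_iff]
        refine ⟨⟨n, hnH⟩, fun b => ?_⟩
        obtain ⟨hb, hbz⟩ := mem_inf.1 b.2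
        rw [mem_centralizer_singleton_iff] at hbz
        by_cases hbc : (b : G) ∈ centralizer (D : Set G)
        · right
          refine ⟨hbc, fun h3 => hnc ?_⟩
          have h4 : (b : G) * n ∈ centralizer (D : Set G) := h3
          have h5 := mul_mem (inv_mem hbc) h4
          rwa [inv_mul_cancel_left] at h5
        · left
          exact ⟨h.step3 hn hnz hnc hb hbz hbc, hbc⟩
      rw [h2]
  rw [← h0, h.cC]
  calc _ ≤ 2 * (9 * e) := Nat.mul_le_mul_right _ h1
    _ = 18 * e := by ring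

end Loc

/-- orbits under conjugation -/
theorem card_orbit [Finite G] (N : Subgroup G) (x : G) :
    {t : G | ∃ n ∈ N, n * x * n⁻¹ = t}.ncard * Nat.card ↥(N ⊓ centralizer ({x} : Set G)) = Nat.card N := by
  let act : MulAction N G := MulAction.compHom G ((MulAut.conj : G →* MulAut G).comp N.subtype)
  have hsm : ∀ (n : N) (t : G), n • t = n * t * (n : G)⁻¹ := fun n t => rfl
  have h1 : MulAction.orbit N x = {t : G | ∃ n ∈ N, n * x * n⁻¹ = t} := by
    ext t
    rw [MulAction.mem_orbit_iff]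
    constructor
    · rintro ⟨n, hn⟩
      exact ⟨n, n.2, hn⟩
    · rintro ⟨n, hn, hnt⟩
      exact ⟨⟨n, hn⟩, hnt⟩
  have h2 : Nat.card (MulAction.stabilizer N x) = Nat.card ↥(N ⊓ centralizer ({x} : Set G)) := by
    apply Nat.card_congr
    refine ⟨fun s => ⟨s.1.1, mem_inf.2 ⟨s.1.2, ?_⟩⟩, fun s => ⟨⟨s.1, (mem_inf.1 s.2).1⟩, ?_⟩, fun s => rfl,
      fun s => rfl⟩
    · rw [mem_centralizer_singleton_iff]
      have h3 := MulAction.mem_stabilizer_iff.1 s.2
      rw [hsm, mul_inv_eq_iff_eq_mul] at h3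
      exact h3
    · rw [MulAction.mem_stabilizer_iff, hsm, mul_inv_eq_iff_eq_mul]
      exact mem_centralizer_singleton_iff.1 (mem_inf.1 s.2).2
  have h3 := Nat.card_congr (MulAction.orbitProdStabilizerEquivGroup N x)
  rw [Nat.card_prod] at h3
  rw [← h2, ← h1, ← h3]
  rfl

namespace Loc

variable {D : Subgroup G} {y z : G} {e : ℕ} (h : Loc D y z e)

include h

theorem not_conj [Finite G] (g : G) : g * y * g⁻¹ ≠ z := by
  intro hg
  have h1 : Nat.card (centralizer ({z} : Set G)) = Nat.card (centralizer ({y} : Set G)) := by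
    rw [← hg]
    have h2 : centralizer ({g * y * g⁻¹} : Set G) = (centralizer ({y} : Set G)).map (MulAut.conj g).toMonoidHom := by
      ext x
      rw [mem_centralizer_singleton_iff, mem_map]
      constructor
      · intro hx
        refine ⟨g⁻¹ * x * g, ?_, by simp [mul_assoc]⟩
        rw [mem_centralizer_singleton_iff]
        calc g⁻¹ * x * g * y = g⁻¹ * (x * (g * y * g⁻¹)) * g := by group
          _ = g⁻¹ * (g * y * g⁻¹ * x) * g := by rw [hx]
          _ = y * (g⁻¹ * x * g) := by group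
      · rintro ⟨c, hc, rfl⟩
        rw [mem_centralizer_singleton_iff] at hc
        change g * c * g⁻¹ * (g * y * g⁻¹) = g * y * g⁻¹ * (g * c * g⁻¹)
        calc g * c * g⁻¹ * (g * y * g⁻¹) = g * (c * y) * g⁻¹ := by group
          _ = g * (y * c) * g⁻¹ := by rw [hc]
          _ = g * y * g⁻¹ * (g * c * g⁻¹) := by group
    rw [h2, Subgroup.card_map_of_injective (MulAut.conj g).injective]
  rw [h.cy, h.cz] at h1
  have := h.e0
  omega

/-- the two orbits of `N(D)` on `D#` -/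
theorem orbits [Finite G] {s : G} (hs : s ∈ D) (hs1 : s ≠ 1) :
    (∃ n ∈ normalizer (D : Set G), n * y * n⁻¹ = s) ∨ (∃ n ∈ normalizer (D : Set G), n * z * n⁻¹ = s) := by
  have he := h.e0
  have hoy := card_orbit (normalizer (D : Set G)) y
  have hoz := card_orbit (normalizer (D : Set G)) z
  set Oy := {t : G | ∃ n ∈ normalizer (D : Set G), n * y * n⁻¹ = t} with hOy
  set Oz := {t : G | ∃ n ∈ normalizer (D : Set G), n * z * n⁻¹ = t} with hOz
  rw [inf_eq_right.2 h.yle, h.cy, h.cN] at hoy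
  have h4y : Oy.ncard = 4 := by
    apply Nat.eq_of_mul_eq_mul_right (show 0 < 18 * e by omega)
    rw [hoy]; ring
  have h4z : 4 ≤ Oz.ncard := by
    by_contra hlt
    have h1 := h.card_Nz
    rw [h.cN] at hoz
    have h2 : Oz.ncard * Nat.card ↥(normalizer (D : Set G) ⊓ centralizer ({z} : Set G)) ≤ 3 * (18 * e) :=
      Nat.mul_le_mul (by omega) h1
    omega
  have hsub : Oy ∪ Oz ⊆ (D : Set G) \ {1} := by
    rintro t (⟨n, hn, rfl⟩ | ⟨n, hn, rfl⟩)
    · refine ⟨conj_mem hn h.hy, fun h1 => h.y1 ?_⟩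
      have h2 : n * y * n⁻¹ = 1 := h1
      rwa [mul_inv_eq_one, mul_eq_left] at h2
    · refine ⟨conj_mem hn h.hz, fun h1 => h.z1 ?_⟩
      have h2 : n * z * n⁻¹ = 1 := h1
      rwa [mul_inv_eq_one, mul_eq_left] at h2
  have hdis : Disjoint Oy Oz := by
    rw [Set.disjoint_left]
    rintro t ⟨n, hn, hnt⟩ ⟨m, hm, hmt⟩
    apply h.not_conj (m⁻¹ * n)
    have h1 : m⁻¹ * n * y * (m⁻¹ * n)⁻¹ = m⁻¹ * (n * y * n⁻¹) * m := by group
    rw [h1, hnt, ← hmt]
    group
  have hD : ((D : Set G) \ {1}).ncard = 8 := by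
    rw [Set.ncard_sdiff_singleton_of_mem D.one_mem, ← Nat.card_coe_set_eq]
    have h1 : Nat.card (D : Set G) = 9 := h.card
    rw [h1]
  have hun : (Oy ∪ Oz).ncard = Oy.ncard + Oz.ncard := Set.ncard_union_eq hdis (Set.toFinite _) (Set.toFinite _)
  have heq : Oy ∪ Oz = (D : Set G) \ {1} :=
    Set.eq_of_subset_of_ncard_le hsub (by rw [hD, hun]; omega) (Set.toFinite _)
  have h1 : s ∈ Oy ∪ Oz := by
    rw [heq]; exact ⟨hs, hs1⟩
  exact h1

theorem orb_z [Finite G] : 4 ≤ {t : G | ∃ n ∈ normalizer (D : Set G), n * z * n⁻¹ = t}.ncard := by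
  have he := h.e0
  have hoz := card_orbit (normalizer (D : Set G)) z
  by_contra hlt
  have h1 := h.card_Nz
  rw [h.cN] at hoz
  have h2 : {t : G | ∃ n ∈ normalizer (D : Set G), n * z * n⁻¹ = t}.ncard *
      Nat.card ↥(normalizer (D : Set G) ⊓ centralizer ({z} : Set G)) ≤ 3 * (18 * e) :=
    Nat.mul_le_mul (by omega) h1
  omega

theorem orb_y [Finite G] : 4 ≤ {t : G | ∃ n ∈ normalizer (D : Set G), n * y * n⁻¹ = t}.ncard := by
  have he := h.e0
  have hoz := card_orbit (normalizer (D : Set G)) y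
  rw [inf_eq_right.2 h.yle, h.cy, h.cN] at hoz
  by_contra hlt
  have h2 : {t : G | ∃ n ∈ normalizer (D : Set G), n * y * n⁻¹ = t}.ncard * (18 * e) ≤ 3 * (18 * e) :=
    Nat.mul_le_mul_right _ (by omega)
  omega

/-- `N(D)` is irreducible on `D` -/
theorem irred [Finite G] {B : Subgroup G} (hBD : B ≤ D) (hB : ∀ n ∈ normalizer (D : Set G), ∀ b ∈ B, n * b * n⁻¹ ∈ B)
    (hne : B ≠ ⊥) : B = D := by
  obtain ⟨b, hb, hb1⟩ : ∃ b ∈ B, b ≠ 1 := by
    by_contra hcon
    push Not at hcon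
    exact hne ((eq_bot_iff_forall B).2 hcon)
  have h4 : ∃ S : Set G, 4 ≤ S.ncard ∧ S ⊆ (B : Set G) ∧ (1 : G) ∉ S := by
    rcases h.orbits (hBD hb) hb1 with ⟨n, hn, hnb⟩ | ⟨n, hn, hnb⟩
    · refine ⟨_, h.orb_y, ?_, ?_⟩
      · rintro t ⟨m, hm, rfl⟩
        have h1 : m * y * m⁻¹ = (m * n⁻¹) * b * (m * n⁻¹)⁻¹ := by rw [← hnb]; group
        rw [h1]
        exact hB _ (mul_mem hm (inv_mem hn)) _ hb
      · rintro ⟨m, hm, h1⟩
        rw [mul_inv_eq_one, mul_eq_left] at h1
        exact h.y1 h1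
    · refine ⟨_, h.orb_z, ?_, ?_⟩
      · rintro t ⟨m, hm, rfl⟩
        have h1 : m * z * m⁻¹ = (m * n⁻¹) * b * (m * n⁻¹)⁻¹ := by rw [← hnb]; group
        rw [h1]
        exact hB _ (mul_mem hm (inv_mem hn)) _ hb
      · rintro ⟨m, hm, h1⟩
        rw [mul_inv_eq_one, mul_eq_left] at h1
        exact h.z1 h1
  obtain ⟨S, hS4, hSB, hS1⟩ := h4
  have h5 : 5 ≤ Nat.card B := by
    have h6 : (insert 1 S).ncard = S.ncard + 1 := Set.ncard_insert_of_notMem hS1 (Set.toFinite _)
    have h7 : insert 1 S ⊆ (B : Set G) := Set.insert_subset B.one_mem hSB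
    have h8 := Set.ncard_le_ncard h7 (Set.toFinite _)
    have h9 : (B : Set G).ncard = Nat.card B := rfl
    omega
  have h6 : Nat.card B ∣ 9 := by rw [← h.card]; exact card_dvd_of_le hBD
  have h7 : Nat.card B = 9 := by
    have h8 : Nat.card B ∣ 3 ^ 2 := h6
    rw [Nat.dvd_prime_pow Nat.prime_three] at h8
    obtain ⟨k, hk, hk'⟩ := h8
    interval_cases k <;> omega
  exact Subgroup.eq_of_le_of_card_ge hBD (by rw [h7, h.card])

theorem bot_cz [Finite G] {M : Subgroup G} (hM : M.Normal) (h3 : ¬ 3 ∣ Nat.card M) {m : G} (hm : m ∈ M)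
    (hz : m * z = z * m) : m = 1 := by
  have h1 := h.core (M ⊓ centralizer ({z} : Set G)) inf_le_right
    (fun c hc r hr => mem_inf.2 ⟨hM.conj_mem _ (mem_inf.1 hr).1 c, mul_mem (mul_mem hc (mem_inf.1 hr).2) (inv_mem hc)⟩)
    (fun h4 => h3 (h4.trans (card_dvd_of_le inf_le_left)))
  have h2 : m ∈ M ⊓ centralizer ({z} : Set G) := mem_inf.2 ⟨hm, mem_centralizer_singleton_iff.2 hz⟩
  rw [h1, mem_bot] at h2
  exact h2

theorem bot_cy [Finite G] {M : Subgroup G} (hM : M.Normal) (h3 : ¬ 3 ∣ Nat.card M) {m : G} (hm : m ∈ M)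
    (hy : m * y = y * m) : m = 1 := by
  have hdis : ∀ m ∈ M, m ∈ D → m = 1 := by
    intro m hm hmS
    have h1 : orderOf m ∣ 3 := orderOf_dvd_of_pow_eq_one (h.cube m hmS)
    rcases (Nat.dvd_prime Nat.prime_three).1 h1 with h2 | h2
    · exact orderOf_eq_one_iff.1 h2
    · exfalso
      apply h3
      rw [← h2, ← Subgroup.orderOf_mk m hm]
      exact orderOf_dvd_natCard _
  apply h.bot_cz hM h3 hm
  have h2 : m ∈ normalizer (D : Set G) := h.yle (mem_centralizer_singleton_iff.2 hy)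
  have h4 : m * z * m⁻¹ * z⁻¹ ∈ D := mul_mem (conj_mem h2 h.hz) (inv_mem h.hz)
  have h5 : m * z * m⁻¹ * z⁻¹ ∈ M := by
    have h7 : m * z * m⁻¹ * z⁻¹ = m * (z * m⁻¹ * z⁻¹) := by group
    rw [h7]
    exact mul_mem hm (hM.conj_mem _ (inv_mem hm) z)
  have h6 := hdis _ h5 h4
  rw [mul_inv_eq_one, mul_inv_eq_iff_eq_mul] at h6
  exact h6

/-- `O_{3'}(G) = 1` -/
theorem eq_bot_of_normal [Finite G] {M : Subgroup G} (hM : M.Normal) (h3 : ¬ 3 ∣ Nat.card M) : M = ⊥ := by
  have : Fact (Nat.Prime 3) := ⟨Nat.prime_three⟩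
  have hne : D ≠ ⊥ := by
    intro h1
    have h2 := h.card
    rw [h1, Subgroup.card_bot] at h2
    omega
  have hA : Cfsg.IsElementaryAbelian 3 D :=
    ⟨⟨⟨fun a b => Subtype.ext (h.comm _ a.2 _ b.2)⟩⟩, fun a ha => h.cube a ha⟩
  have h1 := Cfsg.Agent.Lib.CoprimeHyperplane.iSup_centralizer_hyperplane hA hne h3
    (le_trans le_top (le_of_eq (normalizer_eq_top M).symm))
  rw [← h1, iSup_eq_bot]
  rintro ⟨B, hBS, hB⟩
  rw [eq_bot_iff]
  intro m hm
  obtain ⟨hmM, hmB⟩ := mem_inf.1 hm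
  obtain ⟨b, hb, hb1⟩ : ∃ b ∈ B, b ≠ 1 := by
    by_contra hcon
    push Not at hcon
    have h2 : B = ⊥ := (eq_bot_iff_forall B).2 hcon
    rw [h2, relIndex_bot_left, h.card] at hB
    omega
  have hmb : b * m = m * b := mem_centralizer_iff.1 hmB b hb
  rw [mem_bot]
  rcases h.orbits (hBS hb) hb1 with ⟨n, hn, hnb⟩ | ⟨n, hn, hnb⟩
  · have h2 : n⁻¹ * m * n = 1 := by
      apply h.bot_cy hM h3
      · have := hM.conj_mem m hmM n⁻¹
        rwa [inv_inv] at this
      · calc n⁻¹ * m * n * y = n⁻¹ * (m * (n * y * n⁻¹)) * n := by group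
          _ = n⁻¹ * (n * y * n⁻¹ * m) * n := by rw [hnb, hmb]
          _ = y * (n⁻¹ * m * n) := by group
    have h3 : m = n * (n⁻¹ * m * n) * n⁻¹ := by group
    rw [h3, h2]; group
  · have h2 : n⁻¹ * m * n = 1 := by
      apply h.bot_cz hM h3
      · have := hM.conj_mem m hmM n⁻¹
        rwa [inv_inv] at this
      · calc n⁻¹ * m * n * z = n⁻¹ * (m * (n * z * n⁻¹)) * n := by group
          _ = n⁻¹ * (n * z * n⁻¹ * m) * n := by rw [hnb, hmb]
          _ = z * (n⁻¹ * m * n) := by group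
    have h3 : m = n * (n⁻¹ * m * n) * n⁻¹ := by group
    rw [h3, h2]; group

omit h in
/-- conjugates of elements of order three of `G` -/
theorem exists_conj_mem [Finite G] (P : Sylow 3 G) (hDP : D = P) {x : G} (hx : orderOf x = 3) :
    ∃ g : G, g * x * g⁻¹ ∈ D := by
  have : Fact (Nat.Prime 3) := ⟨Nat.prime_three⟩
  have hp : IsPGroup 3 (zpowers x) := IsPGroup.of_card (n := 1) (by rw [Nat.card_zpowers, hx, pow_one])
  obtain ⟨Q, hQ⟩ := hp.exists_le_sylow
  obtain ⟨g, hg⟩ := MulAction.exists_smul_eq G Q P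
  refine ⟨g, ?_⟩
  rw [hDP]
  change g * x * g⁻¹ ∈ P
  rw [← hg]
  exact ⟨x, hQ (mem_zpowers x), rfl⟩

theorem le_of_normal [Finite G] (P : Sylow 3 G) (hDP : D = P) {M : Subgroup G} (hM : M.Normal)
    (hne : M ≠ ⊥) : D ≤ M := by
  have : Fact (Nat.Prime 3) := ⟨Nat.prime_three⟩
  have h3 : 3 ∣ Nat.card M := by
    by_contra h3
    exact hne (h.eq_bot_of_normal hM h3)
  obtain ⟨x, hx⟩ := exists_prime_orderOf_dvd_card' (G := M) 3 h3
  have hx' : orderOf (x : G) = 3 := by rw [← hx]; exact orderOf_coe x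
  obtain ⟨g, hg⟩ := exists_conj_mem P hDP hx'
  have h1 : M ⊓ D ≠ ⊥ := by
    intro h1
    have h2 : g * (x : G) * g⁻¹ ∈ M ⊓ D := mem_inf.2 ⟨hM.conj_mem _ x.2 g, hg⟩
    rw [h1, mem_bot, mul_inv_eq_one, mul_eq_left] at h2
    rw [h2, orderOf_one] at hx'
    omega
  have h2 := h.irred (B := M ⊓ D) inf_le_right (fun n hn b hb =>
    mem_inf.2 ⟨hM.conj_mem _ (mem_inf.1 hb).1 n, conj_mem hn (mem_inf.1 hb).2⟩) h1
  rw [← h2]
  exact inf_le_left

theorem not_27 [Finite G] (P : Sylow 3 G) (hDP : D = P) : ¬ 27 ∣ Nat.card G := by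
  have : Fact (Nat.Prime 3) := ⟨Nat.prime_three⟩
  intro h27
  have h1 : Nat.card P = 9 := by
    have := h.card
    rw [hDP] at this
    exact this
  have h2 : 3 ^ 3 ∣ Nat.card P := P.pow_dvd_card_of_pow_dvd_card (n := 3) h27
  rw [h1] at h2
  norm_num at h2

/-- the minimal normal subgroup -/
theorem exists_min [Finite G] (P : Sylow 3 G) (hDP : D = P) : ∃ K : Subgroup G, K.Normal ∧ K ≠ ⊥ ∧
    (∀ M : Subgroup G, M.Normal → M ≤ K → M = ⊥ ∨ M = K) ∧ D ≤ K ∧ centralizer (K : Set G) = ⊥ ∧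
    ((IsSimpleGroup K ∧ ¬ ∀ a b : K, a * b = b * a) ∨
    ∃ S T : Subgroup G, S ⊔ T = K ∧ S ⊓ T = ⊥ ∧ (∀ s ∈ S, ∀ t ∈ T, s * t = t * s) ∧ IsSimpleGroup S ∧ IsSimpleGroup T ∧
      (¬ ∀ a b : S, a * b = b * a) ∧ (¬ ∀ a b : T, a * b = b * a) ∧ K ≤ normalizer (S : Set G) ∧
      K ≤ normalizer (T : Set G) ∧ Nat.card S = Nat.card T ∧ 3 ∣ Nat.card S) := by
  have : Fact (Nat.Prime 3) := ⟨Nat.prime_three⟩
  have hSne : D ≠ ⊥ := by
    intro h1
    have h2 := h.card
    rw [h1, Subgroup.card_bot] at h2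
    omega
  have hfin : {T : Subgroup G | T ≠ ⊥ ∧ T.Normal}.Finite := Set.toFinite _
  have hne : {T : Subgroup G | T ≠ ⊥ ∧ T.Normal}.Nonempty := by
    refine ⟨⊤, fun h1 => hSne (le_bot_iff.1 ?_), inferInstance⟩
    rw [← h1]; exact le_top
  obtain ⟨K, ⟨hK0, hKn⟩, hKmin⟩ := hfin.exists_minimal hne
  have hmin : ∀ M : Subgroup G, M.Normal → M ≤ K → M = ⊥ ∨ M = K := by
    intro M hM hMK
    by_cases hM0 : M = ⊥
    · exact Or.inl hM0
    · exact Or.inr (le_antisymm hMK (hKmin ⟨hM0, hM⟩ hMK))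
  have hDK : D ≤ K := h.le_of_normal P hDP hKn hK0
  have h9K : 9 ∣ Nat.card K := by
    rw [← h.card]; exact card_dvd_of_le hDK
  have h27K : ¬ 27 ∣ Nat.card K := fun h' => h.not_27 P hDP (h'.trans (card_subgroup_dvd_card K))
  have hna : ¬ ∀ x ∈ K, ∀ y ∈ K, Commute x y := by
    intro hab
    obtain ⟨p, hp, hpK, -⟩ := Cfsg.Agent.Lib.MinNormalNonabelian.abelian_structure K hK0 hmin hab
    have : Fact p.Prime := ⟨hp⟩
    obtain ⟨n, hn'⟩ := IsPGroup.iff_card.1 hpK
    have hp3 : p = 3 := by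
      have h3 : 3 ∣ Nat.card K := (by norm_num : 3 ∣ 9).trans h9K
      rw [hn'] at h3
      exact ((Nat.prime_dvd_prime_iff_eq Nat.prime_three hp).1 (Nat.prime_three.dvd_of_dvd_pow h3)).symm
    subst hp3
    have h4 : K = D := by
      rw [hDP]
      have h5 : (P : Subgroup G) ≤ K := hDP ▸ hDK
      exact P.is_maximal' hpK h5
    have h5 : normalizer (D : Set G) = ⊤ := by
      rw [← h4]; exact normalizer_eq_top K
    have h6 := h.cN
    rw [h5, Subgroup.card_top] at h6
    have h7 := card_subgroup_dvd_card (centralizer ({z} : Set G))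
    rw [h.cz, h6] at h7
    have h8 := Nat.dvd_of_mul_dvd_mul_right h.e0 h7
    norm_num at h8
  have hcent : centralizer (K : Set G) = ⊥ := by
    by_contra hc
    have hcn : (centralizer (K : Set G)).Normal := inferInstance
    have h1 := h.le_of_normal P hDP hcn hc
    have h2 : (centralizer (K : Set G) ⊓ K).Normal := inferInstance
    rcases hmin _ h2 inf_le_right with h3 | h3
    · apply hSne
      rw [eq_bot_iff, ← h3]
      exact le_inf h1 hDK
    · apply hna
      intro a ha b hb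
      have h4 : a ∈ centralizer (K : Set G) := (mem_inf.1 (h3.ge ha)).1
      exact (mem_centralizer_iff.1 h4 b hb).symm
  refine ⟨K, hKn, hK0, hmin, hDK, hcent, ?_⟩
  obtain ⟨m, T, hm, hTK, hsimp, hnorm, hconj, hcomm, hinj, hind, hsup⟩ :=
    Cfsg.Agent.Lib.MinNormal.exists_internal_decomposition K hK0 hmin
  obtain ⟨φ⟩ := Cfsg.Agent.Lib.MinNormal.mulEquiv_pi_of_iSupIndep T
    (fun i j hij x y hx hy => hcomm i j hij x hx y hy) hind hsup
  set t := Nat.card (T ⟨0, hm⟩) with ht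
  have hcard : ∀ i, Nat.card (T i) = t := by
    intro i
    obtain ⟨g, hg⟩ := hconj ⟨0, hm⟩ i
    rw [hg, Subgroup.card_map_of_injective (MulAut.conj g).injective]
  have hcK : Nat.card K = t ^ m := by
    rw [Nat.card_congr φ.toEquiv, Nat.card_pi]
    simp [hcard]
  have h3t : 3 ∣ t := by
    have h3 : 3 ∣ Nat.card K := (by norm_num : 3 ∣ 9).trans h9K
    rw [hcK] at h3
    exact Nat.prime_three.dvd_of_dvd_pow h3
  have hm2 : m ≤ 2 := by
    by_contra hlt
    apply h27K
    rw [hcK]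
    have h4 : 3 ^ 3 ∣ t ^ m := (pow_dvd_pow_of_dvd h3t 3).trans (pow_dvd_pow t (by omega))
    exact h4
  -- not abelian
  have hnaT : ∀ i, ¬ ∀ a b : T i, a * b = b * a := by
    intro i hab
    apply hna
    have hall : ∀ j, ∀ a ∈ T j, ∀ b ∈ T j, a * b = b * a := by
      intro j a ha b hb
      obtain ⟨g, hg⟩ := hconj i j
      rw [hg] at ha hb
      obtain ⟨a', ha', rfl⟩ := ha
      obtain ⟨b', hb', rfl⟩ := hb
      have h5 : a' * b' = b' * a' := congrArg Subtype.val (hab ⟨a', ha'⟩ ⟨b', hb'⟩)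
      rw [← map_mul, h5, map_mul]
    intro a ha b hb
    have h6 : ∀ j, T j ≤ centralizer (K : Set G) := by
      intro j a ha
      have h7 : K ≤ centralizer ({a} : Set G) := by
        rw [← hsup]
        refine iSup_le fun i b hb => ?_
        rw [mem_centralizer_singleton_iff]
        by_cases hij : i = j
        · subst hij
          exact hall _ _ hb _ ha
        · exact (hcomm i j hij b hb a ha).eq
      rw [mem_centralizer_iff]
      intro b hb
      exact mem_centralizer_singleton_iff.1 (h7 hb)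
    have h7 : K ≤ centralizer (K : Set G) := by
      nth_rewrite 1 [← hsup]
      exact iSup_le h6
    exact (mem_centralizer_iff.1 (h7 ha) b hb).symm
  obtain rfl | rfl : m = 1 ∨ m = 2 := by omega
  · left
    have h1 : T 0 = K := by
      rw [← hsup]
      exact (iSup_unique (f := T)).symm
    rw [← h1]
    exact ⟨hsimp 0, hnaT 0⟩
  · right
    refine ⟨T 0, T 1, ?_, ?_, ?_, hsimp 0, hsimp 1, hnaT 0, hnaT 1, hnorm 0, hnorm 1, ?_, ?_⟩
    · rw [← hsup]
      apply le_antisymm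
      · exact sup_le (le_iSup T 0) (le_iSup T 1)
      · refine iSup_le fun i => ?_
        fin_cases i
        · exact le_sup_left
        · exact le_sup_right
    · have h5 := hind.pairwiseDisjoint (show (0 : Fin 2) ≠ 1 by decide)
      exact h5.eq_bot
    · intro s hs t' ht'
      exact (hcomm 0 1 (by decide) s hs t' ht').eq
    · rw [hcard 0, hcard 1]
    · rw [hcard 0]; exact h3t

end Loc

end Cfsg.Agent.H975.A8Red
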