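import Cfsg.Agent.H975.A8Red
import Cfsg.Agent.S1265
import Cfsg.Agent.S1325
import Cfsg.Agent.S0008

/-!
# The case of two components (S3329, S3330)
-/

set_option autoImplicit false
set_option linter.unusedSectionVars false

namespace Cfsg.Agent.H975.A8Two

open Subgroup Cfsg.Agent.Lib Cfsg.Agent.H975.A8Red Cfsg.Agent.H975.A8Five Equiv

universe u

variable {G : Type u} [Group G] {D : Subgroup G} {y z : G} {e : ℕ}

theorem card_conj_cent (g x : G) :
    Nat.card (centralizer ({g * x * g⁻¹} : Set G)) = Nat.card (centralizer ({x} : Set G)) := by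
  have h2 : centralizer ({g * x * g⁻¹} : Set G) = (centralizer ({x} : Set G)).map (MulAut.conj g).toMonoidHom := by
    ext t
    rw [mem_centralizer_singleton_iff, mem_map]
    constructor
    · intro hx
      refine ⟨g⁻¹ * t * g, ?_, by simp [mul_assoc]⟩
      rw [mem_centralizer_singleton_iff]
      calc g⁻¹ * t * g * x = g⁻¹ * (t * (g * x * g⁻¹)) * g := by group
        _ = g⁻¹ * (g * x * g⁻¹ * t) * g := by rw [hx]
        _ = x * (g⁻¹ * t * g) := by group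
    · rintro ⟨c, hc, rfl⟩
      rw [mem_centralizer_singleton_iff] at hc
      change g * c * g⁻¹ * (g * x * g⁻¹) = g * x * g⁻¹ * (g * c * g⁻¹)
      calc g * c * g⁻¹ * (g * x * g⁻¹) = g * (c * x) * g⁻¹ := by group
        _ = g * (x * c) * g⁻¹ := by rw [hc]
        _ = g * x * g⁻¹ * (g * c * g⁻¹) := by group
  rw [h2, Subgroup.card_map_of_injective (MulAut.conj g).injective]

/-- each element of order three is conjugate to `y` or `z` -/
theorem conj_yz [Finite G] (h : Loc D y z e) (P : Sylow 3 G) (hDP : D = P) {x : G} (hx : orderOf x = 3) :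
    (∃ g, x = g * y * g⁻¹) ∨ (∃ g, x = g * z * g⁻¹) := by
  obtain ⟨g, hg⟩ := Loc.exists_conj_mem P hDP hx
  have hg1 : g * x * g⁻¹ ≠ 1 := by
    intro h1
    rw [mul_inv_eq_one, mul_eq_left] at h1
    rw [h1, orderOf_one] at hx
    omega
  rcases h.orbits hg hg1 with ⟨n, -, hn⟩ | ⟨n, -, hn⟩
  · left
    refine ⟨g⁻¹ * n, ?_⟩
    have h1 : g⁻¹ * n * y * (g⁻¹ * n)⁻¹ = g⁻¹ * (n * y * n⁻¹) * g := by group
    rw [h1, hn]; group
  · right
    refine ⟨g⁻¹ * n, ?_⟩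
    have h1 : g⁻¹ * n * z * (g⁻¹ * n)⁻¹ = g⁻¹ * (n * z * n⁻¹) * g := by group
    rw [h1, hn]; group

/-- a simple group commuting with an element of order three is `A₅` -/
theorem isoA5 [Finite G] (h : Loc D y z e) (he : e ≤ 2) (P : Sylow 3 G) (hDP : D = P) {S T : Subgroup G}
    (hcomm : ∀ s ∈ S, ∀ t ∈ T, s * t = t * s) (h3 : 3 ∣ Nat.card S) (hs : IsSimpleGroup T)
    (hna : ¬ ∀ a b : T, a * b = b * a) : Nonempty (T ≃* alternatingGroup (Fin 5)) := by
  have : Fact (Nat.Prime 3) := ⟨Nat.prime_three⟩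
  obtain ⟨x, hx⟩ := exists_prime_orderOf_dvd_card' (G := S) 3 h3
  have hx' : orderOf (x : G) = 3 := by rw [← hx]; exact orderOf_coe x
  have hTx : T ≤ centralizer ({(x : G)} : Set G) := by
    intro t ht
    rw [mem_centralizer_singleton_iff]
    exact (hcomm x x.2 t ht).symm
  have he0 := h.e0
  rcases conj_yz h P hDP hx' with ⟨g, hg⟩ | ⟨g, hg⟩
  · exfalso
    have h1 := card_dvd_of_le hTx
    rw [hg, card_conj_cent, h.cy] at h1
    have h2 : Nat.card T ≤ 18 * e := Nat.le_of_dvd (by omega) h1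
    have h4 := BpAlt.solvable_of_lt (Nat.card T) T rfl (by omega)
    exact hna (IsSimpleGroup.comm_iff_isSolvable.2 h4)
  · -- conjugate into `C(z)`
    let U : Subgroup G := T.map (MulAut.conj g⁻¹).toMonoidHom
    let φ : T ≃* U := T.equivMapOfInjective (MulAut.conj g⁻¹).toMonoidHom (MulAut.conj g⁻¹).injective
    have hU : U ≤ centralizer ({z} : Set G) := by
      rintro _ ⟨t, ht, rfl⟩
      have h1 := mem_centralizer_singleton_iff.1 (hTx ht)
      rw [hg] at h1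
      rw [mem_centralizer_singleton_iff]
      change g⁻¹ * t * g⁻¹⁻¹ * z = z * (g⁻¹ * t * g⁻¹⁻¹)
      calc g⁻¹ * t * g⁻¹⁻¹ * z = g⁻¹ * (t * (g * z * g⁻¹)) * g := by group
        _ = g⁻¹ * (g * z * g⁻¹ * t) * g := by rw [h1]
        _ = z * (g⁻¹ * t * g⁻¹⁻¹) := by group
    have hUs : IsSimpleGroup U := φ.symm.isSimpleGroup
    obtain ⟨ψ⟩ := h.simp U hU hUs (fun hc => hna fun a b => by
      apply φ.injective
      rw [map_mul, map_mul]
      exact hc _ _)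
    exact ⟨φ.trans ψ⟩

/-- internal direct product -/
theorem prod_iso {K S T : Subgroup G} (hsup : S ⊔ T = K) (hinf : S ⊓ T = ⊥)
    (hcomm : ∀ s ∈ S, ∀ t ∈ T, s * t = t * s) : Nonempty (K ≃* S × T) := by
  let μ : S × T →* G :=
    { toFun := fun p => p.1 * p.2
      map_one' := by simp
      map_mul' := by
        rintro ⟨a, b⟩ ⟨c, d⟩
        change (a * c : G) * (b * d) = a * b * (c * d)
        have h1 := hcomm c c.2 b b.2
        calc (a * c : G) * (b * d) = a * (c * b) * d := by group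
          _ = a * (b * c) * d := by rw [h1]
          _ = a * b * (c * d) := by group }
  have hinj : Function.Injective μ := by
    rw [injective_iff_map_eq_one]
    rintro ⟨a, b⟩ hab
    have h1 : (a : G) * b = 1 := hab
    have h2 : (a : G) = (b : G)⁻¹ := eq_inv_of_mul_eq_one_left h1
    have h3 : (a : G) ∈ S ⊓ T := mem_inf.2 ⟨a.2, by rw [h2]; exact inv_mem b.2⟩
    rw [hinf, mem_bot] at h3
    rw [h3, one_mul] at h1
    exact Prod.ext (Subtype.ext h3) (Subtype.ext h1)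
  have hrange : μ.range = K := by
    rw [← hsup]
    apply le_antisymm
    · rintro _ ⟨⟨a, b⟩, rfl⟩
      exact mul_mem (mem_sup_left a.2) (mem_sup_right b.2)
    · refine sup_le (fun s hs => ⟨(⟨s, hs⟩, 1), by simp [μ]⟩) (fun t ht => ⟨(1, ⟨t, ht⟩), by simp [μ]⟩)
  exact ⟨((MonoidHom.ofInjective hinj).trans (MulEquiv.subgroupCongr hrange)).symm⟩

abbrev A5 := alternatingGroup (Fin 5)

/-- **the dichotomy** -/
theorem dichotomy [Finite G] (h : Loc D y z e) (he : e ≤ 2) (P : Sylow 3 G) (hDP : D = P) :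
    ∃ K : Subgroup G, K.Normal ∧ K ≠ ⊥ ∧ (∀ M : Subgroup G, M.Normal → M ≤ K → M = ⊥ ∨ M = K) ∧ D ≤ K ∧
      centralizer (K : Set G) = ⊥ ∧ ((IsSimpleGroup K ∧ ¬ ∀ a b : K, a * b = b * a) ∨ Nonempty (K ≃* A5 × A5)) := by
  obtain ⟨K, hKn, hK0, hmin, hDK, hcent, hK⟩ := h.exists_min P hDP
  refine ⟨K, hKn, hK0, hmin, hDK, hcent, ?_⟩
  rcases hK with hK | ⟨S, T, hsup, hinf, hcomm, hS, hT, hSna, hTna, -, -, hST, h3⟩
  · exact Or.inl hK
  · right
    obtain ⟨φT⟩ := isoA5 h he P hDP hcomm h3 hT hTna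
    obtain ⟨φS⟩ := isoA5 h he P hDP (S := T) (T := S) (fun t ht s hs => (hcomm s hs t ht).symm) (hST ▸ h3) hS hSna
    obtain ⟨φ⟩ := prod_iso hsup hinf hcomm
    exact ⟨φ.trans (φS.prodCongr φT)⟩

/-! ### the group `A₅ × A₅` -/

theorem dec_conj : ∀ b : A5, b ^ 3 = 1 → b ≠ 1 → ∃ c : A5, c * b * c⁻¹ = ⟨c[0, 1, 2], mem3⟩ := by
  decide +kernel

theorem dec_inv : ∃ c : A5, c ^ 2 = 1 ∧ c ≠ 1 ∧ c * ⟨c[0, 1, 2], mem3⟩ * c⁻¹ = (⟨c[0, 1, 2], mem3⟩ : A5)⁻¹ := by
  decide +kernel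

theorem dec_cent : ∀ c : A5, c * ⟨c[0, 1, 2], mem3⟩ = ⟨c[0, 1, 2], mem3⟩ * c →
    c = 1 ∨ c = ⟨c[0, 1, 2], mem3⟩ ∨ c = ⟨c[0, 1, 2], mem3⟩ ^ 2 := by
  decide +kernel

/-- the standard element of order three -/
def tau : A5 := ⟨c[0, 1, 2], mem3⟩

/-- an element of order five -/
def phi : A5 := ⟨c[0, 1, 2, 3, 4], mem5⟩

theorem phi_pow : phi ^ 5 = 1 ∧ phi ≠ 1 := by
  unfold phi; decide +kernel

theorem phi_order : orderOf phi = 5 := by
  have : Fact (Nat.Prime 5) := ⟨by norm_num⟩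
  exact orderOf_eq_prime phi_pow.1 phi_pow.2

theorem exists_inv {a : A5} (h3 : a ^ 3 = 1) (h1 : a ≠ 1) : ∃ v : A5, v ^ 2 = 1 ∧ v ≠ 1 ∧ v * a * v⁻¹ = a⁻¹ := by
  obtain ⟨c, hc⟩ := dec_conj a h3 h1
  obtain ⟨v, hv2, hv1, hv⟩ := dec_inv
  refine ⟨c⁻¹ * v * c, ?_, ?_, ?_⟩
  · have h2 : (c⁻¹ * v * c) ^ 2 = c⁻¹ * v ^ 2 * c := by rw [pow_two, pow_two]; group
    rw [h2, hv2]; group
  · intro h2
    apply hv1
    have h4 : v = c * (c⁻¹ * v * c) * c⁻¹ := by group
    rw [h4, h2]; group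
  · rw [← hc] at hv
    calc c⁻¹ * v * c * a * (c⁻¹ * v * c)⁻¹ = c⁻¹ * (v * (c * a * c⁻¹) * v⁻¹) * c := by group
      _ = c⁻¹ * (c * a * c⁻¹)⁻¹ * c := by rw [hv]
      _ = a⁻¹ := by group

theorem cent_three {a c : A5} (h3 : a ^ 3 = 1) (h1 : a ≠ 1) (hc : c * a = a * c) : c = 1 ∨ c = a ∨ c = a ^ 2 := by
  obtain ⟨g, hg⟩ := dec_conj a h3 h1
  have h2 : g * c * g⁻¹ * ⟨c[0, 1, 2], mem3⟩ = ⟨c[0, 1, 2], mem3⟩ * (g * c * g⁻¹) := by
    rw [← hg]
    calc g * c * g⁻¹ * (g * a * g⁻¹) = g * (c * a) * g⁻¹ := by group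
      _ = g * (a * c) * g⁻¹ := by rw [hc]
      _ = g * a * g⁻¹ * (g * c * g⁻¹) := by group
  have h5 : c = g⁻¹ * (g * c * g⁻¹) * g := by group
  rcases dec_cent _ h2 with h4 | h4 | h4
  · left; rw [h5, h4]; group
  · right; left
    rw [h5, h4, ← hg]; group
  · right; right
    rw [h5, h4, ← hg, pow_two, pow_two]; group

/-- elements of order three of the subgroup `K` -/
theorem conj_std {a b : A5} (ha : a ^ 3 = 1) (ha1 : a ≠ 1) (hb : b ^ 3 = 1) (hb1 : b ≠ 1) :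
    ∃ c : A5 × A5, c * (a, b) * c⁻¹ = (tau, tau) := by
  obtain ⟨c, hc⟩ := dec_conj a ha ha1
  obtain ⟨d, hd⟩ := dec_conj b hb hb1
  exact ⟨(c, d), Prod.ext hc hd⟩

theorem not_solvable_A5 : ¬ Group.IsSolvable A5 := by
  intro hs
  have h1 := alternatingGroup.isSimpleGroup (α := Fin 5) (by simp)
  have h2 := IsSimpleGroup.comm_iff_isSolvable.2 hs
  have h3 := h2 tau phi
  revert h3
  unfold tau phi
  decide +kernel

section two

variable [Finite G] {K : Subgroup G} (ψ : K ≃* A5 × A5)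

include ψ

theorem card_K : Nat.card K = 3600 := by
  rw [Nat.card_congr ψ.toEquiv, Nat.card_prod, card_alt]

/-- an element with a trivial coordinate has a big centralizer -/
theorem big {x : G} (hx : x ∈ K) (h1 : (ψ ⟨x, hx⟩).1 = 1 ∨ (ψ ⟨x, hx⟩).2 = 1) :
    60 ≤ Nat.card (centralizer ({x} : Set G)) := by
  have key : ∀ f : A5 →* A5 × A5, Function.Injective f → (∀ a, f a * ψ ⟨x, hx⟩ = ψ ⟨x, hx⟩ * f a) →
      60 ≤ Nat.card (centralizer ({x} : Set G)) := by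
    intro f hf hc
    let g : A5 →* centralizer ({x} : Set G) :=
      { toFun := fun a => ⟨(ψ.symm (f a) : G), by
          rw [mem_centralizer_singleton_iff]
          have h2 : ψ.symm (f a) * ⟨x, hx⟩ = ⟨x, hx⟩ * ψ.symm (f a) := by
            apply ψ.injective
            rw [map_mul, map_mul, ψ.apply_symm_apply]
            exact hc a
          exact congrArg Subtype.val h2⟩
        map_one' := Subtype.ext (by simp)
        map_mul' := fun a b => Subtype.ext (by simp) }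
    have hg : Function.Injective g := by
      intro a b hab
      apply hf
      apply ψ.symm.injective
      exact Subtype.ext (congrArg (fun t : centralizer ({x} : Set G) => (t : G)) hab)
    have h3 := Nat.card_le_card_of_injective g hg
    rwa [card_alt] at h3
  rcases h1 with h1 | h1
  · refine key (MonoidHom.inl A5 A5) (fun a b hab => congrArg Prod.fst hab) fun a => ?_
    refine Prod.ext ?_ ?_
    · change a * (ψ ⟨x, hx⟩).1 = (ψ ⟨x, hx⟩).1 * a
      rw [h1, one_mul, mul_one]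
    · change 1 * (ψ ⟨x, hx⟩).2 = (ψ ⟨x, hx⟩).2 * 1
      rw [one_mul, mul_one]
  · refine key (MonoidHom.inr A5 A5) (fun a b hab => congrArg Prod.snd hab) fun a => ?_
    refine Prod.ext ?_ ?_
    · change 1 * (ψ ⟨x, hx⟩).1 = (ψ ⟨x, hx⟩).1 * 1
      rw [one_mul, mul_one]
    · change a * (ψ ⟨x, hx⟩).2 = (ψ ⟨x, hx⟩).2 * a
      rw [h1, one_mul, mul_one]

/-- an element of order three without trivial coordinate is standard -/
theorem std {x : G} (hx : x ∈ K) (h3 : x ^ 3 = 1) (h1 : (ψ ⟨x, hx⟩).1 ≠ 1) (h2 : (ψ ⟨x, hx⟩).2 ≠ 1) :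
    ∃ k ∈ K, k * x * k⁻¹ = ψ.symm (tau, tau) := by
  have h4 : (ψ ⟨x, hx⟩) ^ 3 = 1 := by
    rw [← map_pow]
    have h5 : (⟨x, hx⟩ : K) ^ 3 = 1 := Subtype.ext h3
    rw [h5, map_one]
  obtain ⟨c, hc⟩ := conj_std (a := (ψ ⟨x, hx⟩).1) (b := (ψ ⟨x, hx⟩).2) (congrArg Prod.fst h4) h1
    (congrArg Prod.snd h4) h2
  refine ⟨ψ.symm c, (ψ.symm c).2, ?_⟩
  have h6 : ψ.symm c * ⟨x, hx⟩ * (ψ.symm c)⁻¹ = ψ.symm (tau, tau) := by
    apply ψ.injective
    rw [map_mul, map_mul, map_inv, ψ.apply_symm_apply, ψ.apply_symm_apply]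
    exact hc
  exact congrArg Subtype.val h6

theorem y_std (h : Loc D y z e) (he : e ≤ 2) (hK : K.Normal) (hDK : D ≤ K) (g : G) :
    ∃ k ∈ K, k * (g * y * g⁻¹) * k⁻¹ = ψ.symm (tau, tau) := by
  have hy : g * y * g⁻¹ ∈ K := hK.conj_mem _ (hDK h.hy) g
  have h3 : (g * y * g⁻¹) ^ 3 = 1 := by
    have h4 : (g * y * g⁻¹) ^ 3 = g * y ^ 3 * g⁻¹ := by
      simp only [pow_succ, pow_zero, one_mul]; group
    rw [h4, h.cube y h.hy]; group
  have hc : Nat.card (centralizer ({g * y * g⁻¹} : Set G)) < 60 := by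
    rw [card_conj_cent, h.cy]; omega
  apply std ψ hy h3
  · intro h1
    have := big ψ hy (Or.inl h1)
    omega
  · intro h1
    have := big ψ hy (Or.inr h1)
    omega

theorem z_one (h : Loc D y z e) (he : e ≤ 2) (hK : K.Normal) (hDK : D ≤ K) :
    (ψ ⟨z, hDK h.hz⟩).1 = 1 ∨ (ψ ⟨z, hDK h.hz⟩).2 = 1 := by
  by_contra hcon
  push Not at hcon
  obtain ⟨k, -, hk⟩ := std ψ (hDK h.hz) (h.cube z h.hz) hcon.1 hcon.2
  obtain ⟨l, -, hl⟩ := y_std ψ h he hK hDK 1
  apply h.not_conj (k⁻¹ * l)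
  have h1 : k⁻¹ * l * y * (k⁻¹ * l)⁻¹ = k⁻¹ * (l * (1 * y * 1⁻¹) * l⁻¹) * k := by group
  rw [h1, hl, ← hk]; group

/-- an element of order ten in the normalizer of `⟨z⟩` -/
theorem exists_ten (h : Loc D y z e) (he : e ≤ 2) (hK : K.Normal) (hDK : D ≤ K) :
    ∃ w ∈ normalizer (zpowers z : Set G), 5 ∣ orderOf w ∧ 2 ∣ orderOf w := by
  have : Fact (Nat.Prime 2) := ⟨Nat.prime_two⟩
  have hz3 : (ψ ⟨z, hDK h.hz⟩) ^ 3 = 1 := by
    rw [← map_pow]
    have h5 : (⟨z, hDK h.hz⟩ : K) ^ 3 = 1 := Subtype.ext (h.cube z h.hz)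
    rw [h5, map_one]
  have hz1 : ψ ⟨z, hDK h.hz⟩ ≠ 1 := by
    intro h1
    rw [← map_one ψ] at h1
    exact h.z1 (congrArg Subtype.val (ψ.injective h1))
  -- an element inverting `ψ z`
  obtain ⟨u, hu5, hu2, hu⟩ : ∃ u : A5 × A5, 5 ∣ orderOf u ∧ 2 ∣ orderOf u ∧ u * ψ ⟨z, hDK h.hz⟩ * u⁻¹ =
      (ψ ⟨z, hDK h.hz⟩)⁻¹ := by
    rcases z_one ψ h he hK hDK with h1 | h1
    · have h2 : (ψ ⟨z, hDK h.hz⟩).2 ≠ 1 := fun h2 => hz1 (Prod.ext h1 h2)
      obtain ⟨v, hv2, hv1, hv⟩ := exists_inv (congrArg Prod.snd hz3) h2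
      have hv' : orderOf v = 2 := orderOf_eq_prime hv2 hv1
      refine ⟨(phi, v), ?_, ?_, Prod.ext ?_ hv⟩
      · rw [Prod.orderOf_mk, phi_order]
        exact Nat.dvd_lcm_left _ _
      · rw [Prod.orderOf_mk, hv']
        exact Nat.dvd_lcm_right _ _
      · change phi * (ψ ⟨z, hDK h.hz⟩).1 * phi⁻¹ = ((ψ ⟨z, hDK h.hz⟩).1)⁻¹
        rw [h1]; group
    · have h2 : (ψ ⟨z, hDK h.hz⟩).1 ≠ 1 := fun h2 => hz1 (Prod.ext h2 h1)
      obtain ⟨v, hv2, hv1, hv⟩ := exists_inv (congrArg Prod.fst hz3) h2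
      have hv' : orderOf v = 2 := orderOf_eq_prime hv2 hv1
      refine ⟨(v, phi), ?_, ?_, Prod.ext hv ?_⟩
      · rw [Prod.orderOf_mk, phi_order]
        exact Nat.dvd_lcm_right _ _
      · rw [Prod.orderOf_mk, hv']
        exact Nat.dvd_lcm_left _ _
      · change phi * (ψ ⟨z, hDK h.hz⟩).2 * phi⁻¹ = ((ψ ⟨z, hDK h.hz⟩).2)⁻¹
        rw [h1]; group
  have hord : orderOf ((ψ.symm u : K) : G) = orderOf u := by
    rw [orderOf_coe, MulEquiv.orderOf_eq]
  have hconj : ((ψ.symm u : K) : G) * z * ((ψ.symm u : K) : G)⁻¹ = z⁻¹ := by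
    have h6 : ψ.symm u * ⟨z, hDK h.hz⟩ * (ψ.symm u)⁻¹ = (⟨z, hDK h.hz⟩ : K)⁻¹ := by
      apply ψ.injective
      rw [map_mul, map_mul, map_inv, map_inv, ψ.apply_symm_apply]
      exact hu
    exact congrArg Subtype.val h6
  refine ⟨ψ.symm u, ?_, by rw [hord]; exact hu5, by rw [hord]; exact hu2⟩
  rw [mem_normalizer_iff]
  set w : G := ((ψ.symm u : K) : G) with hw
  have hcz : ∀ t ∈ zpowers z, w * t * w⁻¹ ∈ zpowers z := by
    rintro _ ⟨n, rfl⟩
    have h2 : w * z ^ n * w⁻¹ = (w * z * w⁻¹) ^ n := by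
      rw [conj_zpow]
    change w * z ^ n * w⁻¹ ∈ zpowers z
    rw [h2, hconj]
    exact zpow_mem (inv_mem (mem_zpowers z)) n
  have hcz' : ∀ t ∈ zpowers z, w⁻¹ * t * w ∈ zpowers z := by
    have hinv : w⁻¹ * z * w = z⁻¹ := by
      have h3 : w⁻¹ * z * w = (w⁻¹ * z⁻¹ * w)⁻¹ := by group
      rw [h3]
      have h4 : w⁻¹ * z⁻¹ * w = z := by
        rw [← hconj]; group
      rw [h4]
    rintro _ ⟨n, rfl⟩
    have h2 : w⁻¹ * z ^ n * w = (w⁻¹ * z * w) ^ n := by
      have := conj_zpow (i := n) (a := w⁻¹) (b := z)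
      rw [inv_inv] at this
      exact this.symm
    change w⁻¹ * z ^ n * w ∈ zpowers z
    rw [h2, hinv]
    exact zpow_mem (inv_mem (mem_zpowers z)) n
  intro t
  constructor
  · exact hcz t
  · intro ht
    have h3 := hcz' _ ht
    have h4 : w⁻¹ * (w * t * w⁻¹) * w = t := by group
    rwa [h4] at h3

/-- `|C_K(y)| ≤ 9` -/
theorem card_cent_y (h : Loc D y z e) (he : e ≤ 2) (hDK : D ≤ K) :
    Nat.card ↥(K ⊓ centralizer ({y} : Set G)) = 9 := by
  have hy := hDK h.hy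
  have h3 : (ψ ⟨y, hy⟩) ^ 3 = 1 := by
    rw [← map_pow]
    have h5 : (⟨y, hy⟩ : K) ^ 3 = 1 := Subtype.ext (h.cube y h.hy)
    rw [h5, map_one]
  have hc : Nat.card (centralizer ({y} : Set G)) < 60 := by
    rw [h.cy]; omega
  have h1 : (ψ ⟨y, hy⟩).1 ≠ 1 := fun h1 => by
    have := big ψ hy (Or.inl h1)
    omega
  have h2 : (ψ ⟨y, hy⟩).2 ≠ 1 := fun h1 => by
    have := big ψ hy (Or.inr h1)
    omega
  apply le_antisymm
  · let B : Subgroup (A5 × A5) := (zpowers (ψ ⟨y, hy⟩).1).prod (zpowers (ψ ⟨y, hy⟩).2)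
    have hB : Nat.card B = 9 := by
      rw [Nat.card_congr (Subgroup.prodEquiv _ _).toEquiv, Nat.card_prod, Nat.card_zpowers, Nat.card_zpowers]
      have : Fact (Nat.Prime 3) := ⟨Nat.prime_three⟩
      rw [orderOf_eq_prime (congrArg Prod.fst h3) h1, orderOf_eq_prime (congrArg Prod.snd h3) h2]
    rw [← hB]
    let f : ↥(K ⊓ centralizer ({y} : Set G)) → B := fun t => ⟨ψ ⟨t, (mem_inf.1 t.2).1⟩, by
      have h4 := mem_centralizer_singleton_iff.1 (mem_inf.1 t.2).2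
      have h5 : ψ ⟨t, (mem_inf.1 t.2).1⟩ * ψ ⟨y, hy⟩ = ψ ⟨y, hy⟩ * ψ ⟨t, (mem_inf.1 t.2).1⟩ := by
        rw [← map_mul, ← map_mul]
        congr 1
        exact Subtype.ext h4
      rw [Subgroup.mem_prod]
      constructor
      · rcases cent_three (congrArg Prod.fst h3) h1 (congrArg Prod.fst h5) with h6 | h6 | h6
        · rw [h6]; exact one_mem _
        · rw [h6]; exact mem_zpowers _
        · rw [h6]; exact pow_mem (mem_zpowers _) 2
      · rcases cent_three (congrArg Prod.snd h3) h2 (congrArg Prod.snd h5) with h6 | h6 | h6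
        · rw [h6]; exact one_mem _
        · rw [h6]; exact mem_zpowers _
        · rw [h6]; exact pow_mem (mem_zpowers _) 2⟩
    apply Nat.card_le_card_of_injective f
    intro a b hab
    have h6 := ψ.injective (congrArg Subtype.val hab)
    exact Subtype.ext (congrArg (fun t : K => (t : G)) h6)
  · rw [← h.card]
    apply Subgroup.card_le_of_le
    refine le_inf hDK fun t ht => ?_
    rw [mem_centralizer_singleton_iff]
    exact h.comm t ht y h.hy

/-- all conjugates of `y` are conjugate under `K` -/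
theorem conj_K (h : Loc D y z e) (he : e ≤ 2) (hK : K.Normal) (hDK : D ≤ K) (g : G) :
    ∃ k ∈ K, k * (g * y * g⁻¹) * k⁻¹ = y := by
  obtain ⟨k, hk, hk'⟩ := y_std ψ h he hK hDK g
  obtain ⟨l, hl, hl'⟩ := y_std ψ h he hK hDK 1
  refine ⟨l⁻¹ * k, mul_mem (inv_mem hl) hk, ?_⟩
  have h1 : l⁻¹ * k * (g * y * g⁻¹) * (l⁻¹ * k)⁻¹ = l⁻¹ * (k * (g * y * g⁻¹) * k⁻¹) * l := by group
  rw [h1, hk', ← hl']; group

theorem index_K (h : Loc D y z e) (he : e ≤ 2) (hK : K.Normal) (hDK : D ≤ K) : K.index = 2 * e := by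
  have h1 := card_orbit (⊤ : Subgroup G) y
  have h2 := card_orbit K y
  have h3 : {t : G | ∃ n ∈ (⊤ : Subgroup G), n * y * n⁻¹ = t} = {t : G | ∃ n ∈ K, n * y * n⁻¹ = t} := by
    ext t
    constructor
    · rintro ⟨g, -, rfl⟩
      obtain ⟨k, hk, hk'⟩ := conj_K ψ h he hK hDK g
      refine ⟨k⁻¹, inv_mem hk, ?_⟩
      nth_rewrite 1 [← hk']
      group
    · rintro ⟨n, -, rfl⟩
      exact ⟨n, mem_top _, rfl⟩
  rw [h3, top_inf_eq, h.cy, Subgroup.card_top] at h1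
  rw [card_cent_y ψ h he hDK, card_K ψ] at h2
  have h4 := K.card_mul_index
  rw [card_K ψ, ← h1] at h4
  have h5 : {t : G | ∃ n ∈ K, n * y * n⁻¹ = t}.ncard = 400 := by omega
  rw [h5] at h4
  have h6 : 3600 * K.index = 3600 * (2 * e) := by rw [h4]; ring
  exact Nat.eq_of_mul_eq_mul_left (by norm_num) h6

theorem sq_mem (h : Loc D y z e) (he : e ≤ 2) (hK : K.Normal) (hDK : D ≤ K)
    (hsq : ∀ g ∈ centralizer ({y} : Set G), g ^ 2 ∈ D) (g : G) : g ^ 2 ∈ K := by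
  obtain ⟨k, hk, hk'⟩ := conj_K ψ h he hK hDK g
  have h1 : k * g ∈ centralizer ({y} : Set G) := by
    rw [mem_centralizer_singleton_iff]
    have h2 : k * g * y * (k * g)⁻¹ = y := by
      rw [← hk']; nth_rewrite 2 [← hk']; group
    rw [mul_inv_eq_iff_eq_mul] at h2
    exact h2
  have h2 := hDK (hsq _ h1)
  rw [← QuotientGroup.eq_one_iff] at h2 ⊢
  have h3 : ((k * g : G) : G ⧸ K) = (g : G ⧸ K) := by
    rw [QuotientGroup.mk_mul, (QuotientGroup.eq_one_iff k).2 hk, one_mul]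
  rw [QuotientGroup.mk_pow] at h2 ⊢
  rw [h3] at h2
  exact h2

theorem fstar (hK : K.Normal) (hK0 : K ≠ ⊥)
    (hmin : ∀ M : Subgroup G, M.Normal → M ≤ K → M = ⊥ ∨ M = K) (hc : centralizer (K : Set G) = ⊥) :
    Cfsg.generalizedFittingSubgroup G = K := by
  -- a normal subgroup meeting `K` trivially is trivial
  have key : ∀ M : Subgroup G, M.Normal → M ≠ ⊥ → K ≤ M := by
    intro M hM hM0
    have h1 : (M ⊓ K).Normal := inferInstance
    rcases hmin _ h1 inf_le_right with h2 | h2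
    · exfalso
      apply hM0
      rw [eq_bot_iff, ← hc]
      intro m hm
      rw [mem_centralizer_iff]
      intro k hk
      have h3 : k * m * k⁻¹ * m⁻¹ ∈ M ⊓ K := by
        refine mem_inf.2 ⟨mul_mem (hM.conj_mem m hm k) (inv_mem hm), ?_⟩
        have h4 : k * m * k⁻¹ * m⁻¹ = k * (m * k⁻¹ * m⁻¹) := by group
        rw [h4]
        exact mul_mem hk (hK.conj_mem _ (inv_mem hk) m)
      rw [h2, mem_bot, mul_inv_eq_one, mul_inv_eq_iff_eq_mul] at h3
      exact h3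
    · rw [← h2]; exact inf_le_left
  apply le_antisymm
  · apply S1325.result K
    · by_contra hF
      have hF0 : Cfsg.fittingSubgroup G ≠ ⊥ := by
        intro h0
        apply hF
        rw [h0]; exact bot_le
      have hFn : (Cfsg.fittingSubgroup G).Normal := inferInstance
      have h1 := key _ hFn hF0
      have hnil : Group.IsNilpotent (Cfsg.fittingSubgroup G) := S0008.result (G := G)
      have h2 : Group.IsSolvable (Cfsg.fittingSubgroup G) := inferInstance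
      apply not_solvable_A5
      have h3 : Group.IsSolvable K := Group.isSolvable_of_isSolvable_injective (Subgroup.inclusion_injective h1)
      have h4 : Group.IsSolvable (A5 × A5) := Group.isSolvable_of_surjective (f := ψ.toMonoidHom) ψ.surjective
      exact Group.isSolvable_of_surjective (f := MonoidHom.fst A5 A5) Prod.fst_surjective
    · rw [hc]; exact bot_le
  · apply key
    · exact Lib.GenFitting.genFitting_normal
    · intro h0
      have h1 := S1265.result (G := G)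
      rw [h0] at h1
      apply hK0
      rw [eq_bot_iff]
      refine le_trans ?_ h1
      intro k _
      rw [mem_centralizer_iff]
      intro b hb
      rw [mem_bot.1 hb]; group

end two

end Cfsg.Agent.H975.A8Two
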