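import Mathlib

/-!
# The Artin-Zorn theorem

A finite alternative division ring is a field.
-/

set_option autoImplicit false

namespace Cfsg.Agent.H975.ArtinZorn

section alt

variable {R : Type*} [NonAssocRing R]

/-- the associator -/
def A (x y z : R) : R := (x * y) * z - x * (y * z)

theorem A_add_left (x x' y z : R) : A (x + x') y z = A x y z + A x' y z := by
  unfold A; simp only [add_mul]; abel

theorem A_add_mid (x y y' z : R) : A x (y + y') z = A x y z + A x y' z := by
  unfold A; simp only [add_mul, mul_add]; abel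

theorem A_add_right (x y z z' : R) : A x y (z + z') = A x y z + A x y z' := by
  unfold A; simp only [mul_add]; abel

theorem A_zero_left (y z : R) : A 0 y z = 0 := by unfold A; simp

theorem A_zero_mid (x z : R) : A x 0 z = 0 := by unfold A; simp

theorem A_zero_right (x y : R) : A x y 0 = 0 := by unfold A; simp

theorem A_neg_left (x y z : R) : A (-x) y z = -A x y z := by
  unfold A; simp only [neg_mul]; abel

theorem A_neg_mid (x y z : R) : A x (-y) z = -A x y z := by
  unfold A; simp only [neg_mul, mul_neg]; abel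

theorem A_neg_right (x y z : R) : A x y (-z) = -A x y z := by
  unfold A; simp only [mul_neg]; abel

theorem A_eq_zero {x y z : R} : A x y z = 0 ↔ (x * y) * z = x * (y * z) := by
  unfold A; rw [sub_eq_zero]

/-- alternative rings -/
structure Alt (R : Type*) [NonAssocRing R] : Prop where
  left : ∀ x y : R, x * (x * y) = (x * x) * y
  right : ∀ x y : R, (y * x) * x = y * (x * x)

namespace Alt

variable (h : Alt R)

include h

theorem a12 (x z : R) : A x x z = 0 := by
  unfold A; rw [h.left, sub_self]

theorem a23 (x y : R) : A x y y = 0 := by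
  unfold A; rw [h.right, sub_self]

theorem s12 (x y z : R) : A x y z = -A y x z := by
  have h1 := h.a12 (x + y) z
  rw [A_add_left, A_add_mid, A_add_mid, h.a12, h.a12, zero_add, add_zero] at h1
  exact eq_neg_of_add_eq_zero_left h1

theorem s23 (x y z : R) : A x y z = -A x z y := by
  have h1 := h.a23 x (y + z)
  rw [A_add_mid, A_add_right, A_add_right, h.a23, h.a23, zero_add, add_zero] at h1
  exact eq_neg_of_add_eq_zero_left h1

theorem cyc (x y z : R) : A x y z = A y z x := by
  rw [h.s12, h.s23 y x z, neg_neg]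

theorem a13 (x y : R) : A x y x = 0 := by
  rw [h.s23, h.a12, neg_zero]

theorem flex (x y : R) : (x * y) * x = x * (y * x) := A_eq_zero.1 (h.a13 x y)

/-- linearised laws -/
theorem leftLin (x y z : R) : x * (y * z) + y * (x * z) = (x * y + y * x) * z := by
  have h1 := h.s12 x y z
  unfold A at h1
  rw [add_mul]
  have h2 : (x * y) * z + (y * x) * z - (x * (y * z) + y * (x * z)) = 0 := by
    have h3 : (x * y) * z + (y * x) * z - (x * (y * z) + y * (x * z)) =
        ((x * y) * z - x * (y * z)) + ((y * x) * z - y * (x * z)) := by abel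
    rw [h3, h1]; abel
  exact (sub_eq_zero.1 h2).symm

theorem rightLin (x y z : R) : (x * y) * z + (x * z) * y = x * (y * z + z * y) := by
  have h1 := h.s23 x y z
  unfold A at h1
  rw [mul_add]
  have h2 : (x * y) * z + (x * z) * y - (x * (y * z) + x * (z * y)) = 0 := by
    have h3 : (x * y) * z + (x * z) * y - (x * (y * z) + x * (z * y)) =
        ((x * y) * z - x * (y * z)) + ((x * z) * y - x * (z * y)) := by abel
    rw [h3, h1]; abel
  exact sub_eq_zero.1 h2

/-- left Moufang identity -/
theorem LM (x y z : R) : (x * (y * x)) * z = x * (y * (x * z)) := by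
  -- `A (xy) x z + A x y (xz) = 0`
  have h1 : A (x * y) x z + A x y (x * z) = 0 := by
    rw [h.s12 (x * y) x z, h.s23 x y (x * z)]
    unfold A
    have e1 : x * (x * y) * z = (x * x) * y * z := by rw [h.left]
    have e2 : x * (x * z) * y = (x * x) * z * y := by rw [h.left]
    have e3 : (x * x) * y * z + (x * x) * z * y = x * (x * (y * z + z * y)) := by
      rw [h.rightLin, h.left]
    have e4 : x * (x * y * z) + x * (x * z * y) = x * (x * (y * z + z * y)) := by
      rw [← mul_add, h.rightLin]
    rw [e1, e2]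
    have e5 : -((x * x) * y * z - x * (x * y * z)) + -((x * x) * z * y - x * (x * z * y)) =
        (x * (x * y * z) + x * (x * z * y)) - ((x * x) * y * z + (x * x) * z * y) := by abel
    rw [e5, e3, e4, sub_self]
  unfold A at h1
  rw [← h.flex]
  have h2 : x * y * x * z - x * (y * (x * z)) = 0 := by
    rw [← h1]; abel
  exact sub_eq_zero.1 h2

/-- right Moufang identity -/
theorem RM (x y z : R) : ((z * x) * y) * x = z * ((x * y) * x) := by
  have h1 : A (z * x) y x + A z x (y * x) = 0 := by
    rw [h.s12 (z * x) y x, h.s23 z x (y * x)]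
    -- `-A y (zx) x - A z (yx) x`
    unfold A
    have e1 : z * x * x = z * (x * x) := h.right x z
    have e2 : y * x * x = y * (x * x) := h.right x y
    have e3 : y * (z * x) + z * (y * x) = (y * z + z * y) * x := h.leftLin y z x
    have e4 : y * (z * (x * x)) + z * (y * (x * x)) = (y * z + z * y) * (x * x) := h.leftLin y z (x * x)
    have e5 : (y * (z * x)) * x + (z * (y * x)) * x = (y * z + z * y) * (x * x) := by
      rw [← add_mul, e3, h.right]
    rw [e1, e2]
    have e6 : -(y * (z * x) * x - y * (z * (x * x))) + -(z * (y * x) * x - z * (y * (x * x))) =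
        (y * (z * (x * x)) + z * (y * (x * x))) - ((y * (z * x)) * x + (z * (y * x)) * x) := by abel
    rw [e6, e4, e5, sub_self]
  unfold A at h1
  rw [h.flex]
  have h2 : z * x * y * x - z * (x * (y * x)) = 0 := by
    rw [← h1]; abel
  exact sub_eq_zero.1 h2

theorem M2 (x y z : R) : A x (y * x) z = x * A x y z := by
  have h1 : A x (y * x) z = -(x * A y x z) := by
    unfold A
    rw [h.LM, mul_sub]
    abel
  rw [h1, h.s12 x y z, mul_neg]

theorem M1 (x y z : R) : A x (x * y) z = A x y z * x := by
  have h1 : A z (x * y) x = -(A z x y * x) := by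
    unfold A
    rw [← h.RM, sub_mul]
    abel
  have h2 : A x (x * y) z = -A z (x * y) x := by
    rw [h.cyc, h.s12, ← h.cyc]
  rw [h2, h1, neg_neg, h.cyc z x y]

theorem MM (x y z : R) : (x * y) * (z * x) = (x * (y * z)) * x := by
  have h1 : A x y (z * x) = x * A y z x := by
    rw [h.s23, h.M2, ← mul_neg, ← h.s23, h.cyc]
  have h2 : (x * y) * (z * x) = A x y (z * x) + x * (y * (z * x)) := by unfold A; abel
  have h3 : x * (y * (z * x)) = x * ((y * z) * x) - x * A y z x := by
    unfold A; rw [mul_sub]; abel
  rw [h2, h3, h1, h.flex]; abel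

end Alt

/-! ### words in two letters -/

section words

variable (a b : R)

/-- the letters -/
def letter (c : Bool) : R := cond c a b

/-- the right-normed value of a word -/
def val : List Bool → R
  | [] => 1
  | c :: l => letter a b c * val l

@[simp] theorem val_nil : val a b [] = 1 := rfl

@[simp] theorem val_cons (c : Bool) (l : List Bool) : val a b (c :: l) = letter a b c * val a b l := rfl

theorem val_single (c : Bool) : val a b [c] = letter a b c := by simp

/-- words multiply by concatenation up to length `n` -/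
def C (n : ℕ) : Prop := ∀ u v : List Bool, u.length + v.length ≤ n → val a b (u ++ v) = val a b u * val a b v

variable {a b}

theorem C.assoc3 {n : ℕ} (hC : C a b n) (u v w : List Bool) (h : u.length + v.length + w.length ≤ n) :
    A (val a b u) (val a b v) (val a b w) = 0 := by
  rw [A_eq_zero, ← hC u v (by omega), ← hC (u ++ v) w (by rw [List.length_append]; omega), ← hC v w (by omega),
    ← hC u (v ++ w) (by rw [List.length_append]; omega), List.append_assoc]

theorem C.snoc {n : ℕ} (hC : C a b n) (u : List Bool) (c : Bool) (h : u.length + 1 ≤ n) :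
    val a b (u ++ [c]) = val a b u * letter a b c := by
  rw [hC u [c] (by simpa using h), val_single]

theorem exists_snoc {l : List Bool} (hl : l ≠ []) : ∃ l' c, l = l' ++ [c] := by
  rcases List.eq_nil_or_concat' l with h | ⟨l', c, h⟩
  · exact absurd h hl
  · exact ⟨l', c, h⟩

/-- the case of a letter -/
theorem C.letterCase (h : Alt R) {n : ℕ} (hC : C a b n) (c : Bool) (u v : List Bool)
    (huv : u.length + v.length ≤ n) : A (letter a b c) (val a b u) (val a b v) = 0 := by
  -- a word with `c` at an end
  have key : ∀ u v : List Bool, u.length + v.length ≤ n →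
      ((∃ u', u = c :: u') ∨ (∃ u', u = u' ++ [c])) → A (letter a b c) (val a b u) (val a b v) = 0 := by
    rintro u v huv (⟨u', rfl⟩ | ⟨u', rfl⟩)
    · rw [val_cons, h.M1, ← val_single a b c,
        hC.assoc3 [c] u' v (by simp only [List.length_cons, List.length_nil] at huv ⊢; omega), zero_mul]
    · rw [List.length_append, List.length_singleton] at huv
      rw [hC.snoc u' c (by omega), h.M2, ← val_single a b c,
        hC.assoc3 [c] u' v (by simp only [List.length_cons, List.length_nil] at huv ⊢; omega), mul_zero]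
  by_cases hu : u = []
  · subst hu
    rw [val_nil, A_eq_zero, mul_one, one_mul]
  by_cases hv : v = []
  · subst hv
    rw [val_nil, A_eq_zero, mul_one, mul_one]
  by_cases hu1 : (∃ u', u = c :: u') ∨ (∃ u', u = u' ++ [c])
  · exact key u v huv hu1
  by_cases hv1 : (∃ v', v = c :: v') ∨ (∃ v', v = v' ++ [c])
  · rw [h.s23, key v u (by omega) hv1, neg_zero]
  push Not at hu1 hv1
  -- the other letter
  obtain ⟨d, hd⟩ : ∃ d : Bool, ∀ e : Bool, e ≠ c → e = d := ⟨!c, by intro e he; cases e <;> cases c <;> simp_all⟩
  obtain ⟨e, u', rfl⟩ := List.exists_cons_of_ne_nil hu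
  have he : e = d := hd e (fun he => hu1.1 u' (by rw [he]))
  subst he
  obtain ⟨v', f, rfl⟩ := exists_snoc hv
  have hf : f = e := hd f (fun hf => hv1.2 v' (by rw [hf]))
  subst hf
  have hlen : u'.length + v'.length + 2 ≤ n := by
    simp only [List.length_cons, List.length_append, List.length_nil] at huv
    omega
  -- `A y U' T = 0`
  have hyT : A (letter a b f) (val a b u') (val a b (v' ++ [f, c])) = 0 := by
    by_cases hu0 : u' = []
    · subst hu0
      rw [val_nil, A_eq_zero, mul_one, one_mul]
    · obtain ⟨u'', g, rfl⟩ := exists_snoc hu0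
      have hg : g = f := hd g (fun hg => hu1.2 (f :: u'') (by rw [hg]; rfl))
      subst hg
      rw [List.length_append, List.length_singleton] at hlen
      rw [hC.snoc u'' g (by omega), h.M2, ← val_single a b g,
        hC.assoc3 [g] u'' (v' ++ [g, c]) (by
          simp only [List.length_cons, List.length_append, List.length_nil]; omega), mul_zero]
  have hT : val a b (v' ++ [f, c]) = val a b v' * (letter a b f * letter a b c) := by
    rw [hC v' [f, c] (by simp only [List.length_cons, List.length_nil]; omega)]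
    simp
  rw [hT, A_eq_zero] at hyT
  have hv' : A (val a b v') (letter a b f) (letter a b c) = 0 := by
    have := hC.assoc3 v' [f] [c] (by simp only [List.length_cons, List.length_nil]; omega)
    rwa [val_single, val_single] at this
  rw [A_eq_zero] at hv'
  have huv' : A (val a b u') (val a b v') (letter a b f * letter a b c) = 0 := by
    have := hC.assoc3 u' v' [f, c] (by simp only [List.length_cons, List.length_nil]; omega)
    simpa using this
  rw [A_eq_zero] at huv'
  rw [h.cyc, A_eq_zero, val_cons, hC.snoc v' f (by omega), h.MM, h.flex, h.LM, hv', hyT, huv']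

theorem C_all (h : Alt R) (n : ℕ) : C a b n := by
  induction n with
  | zero =>
    intro u v huv
    have hu : u = [] := List.length_eq_zero_iff.1 (by omega)
    have hv : v = [] := List.length_eq_zero_iff.1 (by omega)
    subst hu hv
    simp
  | succ n ih =>
    intro u v huv
    cases u with
    | nil => simp
    | cons c u' =>
      rw [List.length_cons] at huv
      have h1 := ih.letterCase h c u' v (by omega)
      rw [A_eq_zero] at h1
      rw [List.cons_append, val_cons, val_cons, ih u' v (by omega), h1]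

theorem val_append (h : Alt R) (u v : List Bool) : val a b (u ++ v) = val a b u * val a b v :=
  C_all h _ u v le_rfl

theorem val_assoc (h : Alt R) (u v w : List Bool) : A (val a b u) (val a b v) (val a b w) = 0 :=
  (C_all h _).assoc3 u v w le_rfl

/-- the additive group spanned by the words -/
def M (a b : R) : AddSubgroup R := AddSubgroup.closure (Set.range (val a b))

theorem M_mul (h : Alt R) {s t : R} (hs : s ∈ M a b) (ht : t ∈ M a b) : s * t ∈ M a b := by
  unfold M at hs ht
  induction hs using AddSubgroup.closure_induction with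
  | zero => rw [zero_mul]; exact zero_mem _
  | add x y _ _ hx hy => rw [add_mul]; exact add_mem hx hy
  | neg x _ hx => rw [neg_mul]; exact neg_mem hx
  | mem x hx =>
    obtain ⟨u, rfl⟩ := hx
    induction ht using AddSubgroup.closure_induction with
    | zero => rw [mul_zero]; exact zero_mem _
    | add x y _ _ hx hy => rw [mul_add]; exact add_mem hx hy
    | neg x _ hx => rw [mul_neg]; exact neg_mem hx
    | mem y hy =>
      obtain ⟨v, rfl⟩ := hy
      rw [← val_append h]
      exact AddSubgroup.subset_closure ⟨_, rfl⟩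

theorem M_assoc (h : Alt R) {s t r : R} (hs : s ∈ M a b) (ht : t ∈ M a b) (hr : r ∈ M a b) : A s t r = 0 := by
  unfold M at hs ht hr
  induction hs using AddSubgroup.closure_induction with
  | zero => exact A_zero_left _ _
  | add x y _ _ hx hy => rw [A_add_left, hx, hy, add_zero]
  | neg x _ hx => rw [A_neg_left, hx, neg_zero]
  | mem x hx =>
    obtain ⟨u, rfl⟩ := hx
    induction ht using AddSubgroup.closure_induction with
    | zero => exact A_zero_mid _ _
    | add x y _ _ hx hy => rw [A_add_mid, hx, hy, add_zero]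
    | neg x _ hx => rw [A_neg_mid, hx, neg_zero]
    | mem y hy =>
      obtain ⟨v, rfl⟩ := hy
      induction hr using AddSubgroup.closure_induction with
      | zero => exact A_zero_right _ _
      | add x y _ _ hx hy => rw [A_add_right, hx, hy, add_zero]
      | neg x _ hx => rw [A_neg_right, hx, neg_zero]
      | mem z hz =>
        obtain ⟨w, rfl⟩ := hz
        exact val_assoc h u v w

theorem one_mem_M : (1 : R) ∈ M a b := AddSubgroup.subset_closure ⟨[], rfl⟩

theorem left_mem_M : a ∈ M a b := AddSubgroup.subset_closure ⟨[true], by simp [letter]⟩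

theorem right_mem_M : b ∈ M a b := AddSubgroup.subset_closure ⟨[false], by simp [letter]⟩

/-- the subring generated by two elements -/
def T (h : Alt R) (a b : R) : Subring R :=
  { carrier := M a b
    mul_mem' := fun hs ht => M_mul h hs ht
    one_mem' := one_mem_M
    add_mem' := fun hs ht => add_mem hs ht
    zero_mem' := zero_mem _
    neg_mem' := fun hs => neg_mem hs }

end words

end alt

section fin

variable {R : Type*} [NonAssocRing R] [Finite R] [Nontrivial R]

omit [Nontrivial R] in
theorem inv_left (hl : ∀ a : R, a ≠ 0 → ∃ b : R, ∀ x, b * (a * x) = x) {a : R} (ha : a ≠ 0) :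
    ∃ b : R, (∀ x, b * (a * x) = x) ∧ ∀ x, a * (b * x) = x := by
  obtain ⟨b, hb⟩ := hl a ha
  refine ⟨b, hb, fun x => ?_⟩
  have hinj : Function.Injective (fun x : R => a * x) := fun x y hxy => by
    rw [← hb x, ← hb y]
    exact congrArg (fun t => b * t) hxy
  obtain ⟨z, hz⟩ := Finite.surjective_of_injective hinj x
  have hz' : a * z = x := hz
  rw [← hz', hb]

omit [Nontrivial R] in
theorem inv_right (hr : ∀ a : R, a ≠ 0 → ∃ b : R, ∀ x, (x * a) * b = x) {a : R} (ha : a ≠ 0) :
    ∃ b : R, (∀ x, (x * a) * b = x) ∧ ∀ x, (x * b) * a = x := by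
  obtain ⟨b, hb⟩ := hr a ha
  refine ⟨b, hb, fun x => ?_⟩
  have hinj : Function.Injective (fun x : R => x * a) := fun x y hxy => by
    rw [← hb x, ← hb y]
    exact congrArg (fun t => t * b) hxy
  obtain ⟨z, hz⟩ := Finite.surjective_of_injective hinj x
  have hz' : z * a = x := hz
  rw [← hz', hb]

theorem alt_of (hl : ∀ a : R, a ≠ 0 → ∃ b : R, ∀ x, b * (a * x) = x)
    (hr : ∀ a : R, a ≠ 0 → ∃ b : R, ∀ x, (x * a) * b = x) : Alt R := by
  refine ⟨fun x y => ?_, fun x y => ?_⟩
  · by_cases hx : x = 0
    · rw [hx]; simp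
    by_cases hx1 : x + 1 = 0
    · rw [eq_neg_of_add_eq_zero_left hx1]; simp
    obtain ⟨p, hp1, hp2⟩ := inv_left hl hx
    obtain ⟨q, hq1, hq2⟩ := inv_left hl hx1
    have h1 : ∀ y, x * ((x + 1) * ((p - q) * y)) = y := by
      intro y
      have h2 : (x + 1) * ((p - q) * y) = p * y := by
        rw [sub_mul, mul_sub, hq2, add_mul, one_mul, hp2]; abel
      rw [h2, hp2]
    have hc : p - q ≠ 0 := by
      intro hc
      obtain ⟨u, v, huv⟩ := exists_pair_ne R
      apply huv
      rw [← h1 u, ← h1 v, hc]; simp
    obtain ⟨d, -, hd⟩ := inv_left hl hc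
    have h3 : ∀ y, x * ((x + 1) * y) = d * y := by
      intro y
      have := h1 (d * y)
      rwa [hd] at this
    have h4 := h3 1
    rw [mul_one, mul_one] at h4
    have h5 := h3 y
    rw [← h4, add_mul, one_mul, mul_add, mul_add, mul_one, add_mul] at h5
    exact add_right_cancel h5
  · by_cases hx : x = 0
    · rw [hx]; simp
    by_cases hx1 : x + 1 = 0
    · rw [eq_neg_of_add_eq_zero_left hx1]; simp
    obtain ⟨p, hp1, hp2⟩ := inv_right hr hx
    obtain ⟨q, hq1, hq2⟩ := inv_right hr hx1
    have h1 : ∀ y, (((y * (p - q)) * (x + 1)) * x) = y := by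
      intro y
      have h2 : (y * (p - q)) * (x + 1) = y * p := by
        rw [mul_sub, sub_mul, hq2, mul_add, mul_one, hp2]; abel
      rw [h2, hp2]
    have hc : p - q ≠ 0 := by
      intro hc
      obtain ⟨u, v, huv⟩ := exists_pair_ne R
      apply huv
      rw [← h1 u, ← h1 v, hc]; simp
    obtain ⟨d, -, hd⟩ := inv_right hr hc
    have h3 : ∀ y, (y * (x + 1)) * x = y * d := by
      intro y
      have := h1 (y * d)
      rwa [hd] at this
    have h4 := h3 1
    rw [one_mul, one_mul] at h4
    have h5 := h3 y
    rw [← h4, mul_add, mul_one, add_mul, add_mul, one_mul, mul_add] at h5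
    exact add_right_cancel h5

omit [Finite R] [Nontrivial R] in
theorem mul_ne_zero' (hl : ∀ a : R, a ≠ 0 → ∃ b : R, ∀ x, b * (a * x) = x) {a b : R} (ha : a ≠ 0) (hb : b ≠ 0) :
    a * b ≠ 0 := by
  obtain ⟨c, hc⟩ := hl a ha
  intro h0
  apply hb
  rw [← hc b, h0, mul_zero]

omit [Nontrivial R] [Finite R] in
theorem assoc_T (h : Alt R) (a b : R) (s t r : T h a b) : s * t * r = s * (t * r) :=
  Subtype.ext (A_eq_zero.1 (M_assoc h s.2 t.2 r.2))

omit [Nontrivial R] [Finite R] in
theorem nzd_T (h : Alt R) (hl : ∀ a : R, a ≠ 0 → ∃ b : R, ∀ x, b * (a * x) = x) (a b : R) (s t : T h a b)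
    (hst : s * t = 0) : s = 0 ∨ t = 0 := by
  by_contra hcon
  push Not at hcon
  exact mul_ne_zero' hl (fun h0 => hcon.1 (Subtype.ext h0)) (fun h0 => hcon.2 (Subtype.ext h0))
    (congrArg Subtype.val hst)

omit [Finite R] in
theorem nontrivial_T (h : Alt R) (a b : R) : Nontrivial (T h a b) :=
  ⟨⟨0, 1, fun h0 => zero_ne_one (α := R) (congrArg Subtype.val h0)⟩⟩

theorem comm_of_assoc {S : Type*} [i : NonAssocRing S] [Finite S] [Nontrivial S]
    (hassoc : ∀ a b c : S, a * b * c = a * (b * c)) (hz : ∀ a b : S, a * b = 0 → a = 0 ∨ b = 0) (a b : S) :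
    a * b = b * a := by
  let r : Ring S := { i with mul_assoc := hassoc }
  have h1 : NoZeroDivisors S := ⟨fun {x y} hxy => hz x y hxy⟩
  have h2 : IsDomain S := NoZeroDivisors.to_isDomain S
  exact (Finite.isDomain_to_isField S).mul_comm a b

theorem gen_of_assoc {S : Type*} [i : NonAssocRing S] [Finite S] [Nontrivial S]
    (hassoc : ∀ a b c : S, a * b * c = a * (b * c)) (hz : ∀ a b : S, a * b = 0 → a = 0 ∨ b = 0) :
    ∃ g : S, ∀ P : S → Prop, P 1 → (∀ x, P x → P (x * g)) → ∀ x, x ≠ 0 → P x := by
  let r : CommRing S := { i with mul_assoc := hassoc, mul_comm := comm_of_assoc hassoc hz }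
  have h1 : NoZeroDivisors S := ⟨fun {x y} hxy => hz x y hxy⟩
  have h2 : IsDomain S := NoZeroDivisors.to_isDomain S
  obtain ⟨g, hg⟩ := IsCyclic.exists_monoid_generator (α := Sˣ)
  refine ⟨g, fun P hP1 hP x hx => ?_⟩
  have h3 : ∀ n : ℕ, P ((g ^ n : Sˣ) : S) := by
    intro n
    induction n with
    | zero => exact hP1
    | succ n ih =>
      have h4 : ((g ^ (n + 1) : Sˣ) : S) = ((g ^ n : Sˣ) : S) * g := by
        rw [pow_succ, Units.val_mul]
      rw [h4]
      exact hP _ ih
  obtain ⟨y, hy⟩ := (Finite.isDomain_to_isField S).mul_inv_cancel hx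
  obtain ⟨n, hn⟩ := hg (Units.mkOfMulEqOne x y hy)
  have h5 : x = ((g ^ n : Sˣ) : S) := by
    have h6 := congrArg (fun u : Sˣ => (u : S)) hn
    exact h6.symm
  rw [h5]
  exact h3 n

theorem comm (h : Alt R) (hl : ∀ a : R, a ≠ 0 → ∃ b : R, ∀ x, b * (a * x) = x) (a b : R) : a * b = b * a := by
  have := nontrivial_T h a b
  exact congrArg Subtype.val
    (comm_of_assoc (assoc_T h a b) (nzd_T h hl a b) ⟨a, left_mem_M⟩ ⟨b, right_mem_M⟩)

theorem exists_gen (h : Alt R) (hl : ∀ a : R, a ≠ 0 → ∃ b : R, ∀ x, b * (a * x) = x) (a b : R) :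
    ∃ g : R, ∀ c : R, a ∈ M g c ∧ b ∈ M g c := by
  have := nontrivial_T h a b
  obtain ⟨g, hg⟩ := gen_of_assoc (assoc_T h a b) (nzd_T h hl a b)
  have key : ∀ (x : T h a b) (c : R), (x : R) ∈ M (g : R) c := by
    intro x c
    by_cases hx : x = 0
    · rw [hx]; exact zero_mem _
    · exact hg (fun y => (y : R) ∈ M (g : R) c) one_mem_M (fun y hy => M_mul h hy left_mem_M) x hx
  exact ⟨g, fun c => ⟨key ⟨a, left_mem_M⟩ c, key ⟨b, right_mem_M⟩ c⟩⟩

/-- **Artin-Zorn** -/
theorem artin_zorn {R : Type*} [NonAssocRing R] [Finite R] [Nontrivial R]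
    (hl : ∀ a : R, a ≠ 0 → ∃ b : R, ∀ x, b * (a * x) = x)
    (hr : ∀ a : R, a ≠ 0 → ∃ b : R, ∀ x, (x * a) * b = x) :
    (∀ a b : R, a * b = b * a) ∧ (∀ a b c : R, a * b * c = a * (b * c)) := by
  have h := alt_of hl hr
  refine ⟨comm h hl, fun a b c => ?_⟩
  obtain ⟨g, hg⟩ := exists_gen h hl a b
  exact A_eq_zero.1 (M_assoc h (hg c).1 (hg c).2 right_mem_M)

end fin

end Cfsg.Agent.H975.ArtinZorn
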